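import Mathlib

/-!
# The minimal central order of a family of Weil numbers of even total degree

`ℤ[F, V] / (FV - q)` has the `ℤ`-basis `μ n` (`n : ℤ`), `μ n = F ^ n` or `V ^ (-n)`. If `F ^ D * h`
is congruent to a monic polynomial `P` of degree `2 D` with constant term `± q ^ D`, then modulo
`(FV - q, h)` the `μ n`, `-D ≤ n < D`, span.
-/

set_option autoImplicit false
universe u

open MvPolynomial

noncomputable section

namespace Groth.Agent.WeilNum

local notation "M2" => MvPolynomial (Fin 2) ℤ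

variable (q : ℤ)

/-- `F ^ n` or `V ^ (-n)`. -/
def μ (n : ℤ) : M2 := X 0 ^ n.toNat * X 1 ^ (-n).toNat

/-- The weight of `μ n`. -/
def w (n : ℤ) : ℤ := q ^ (-n).toNat

/-- The ideal `(FV - q)`. -/
def J0 : Ideal M2 := Ideal.span {X 0 * X 1 - C q}

/-- Linear combinations of the `μ n`. -/
def Φ : (ℤ →₀ ℤ) →ₗ[ℤ] M2 := Finsupp.linearCombination ℤ μ

lemma red (a b : ℕ) :
    X 0 ^ a * X 1 ^ b - C (q ^ min a b) * μ ((a : ℤ) - b) ∈ J0 q := by
  have ha : a = min a b + ((a : ℤ) - b).toNat := by omega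
  have hb : b = min a b + (-((a : ℤ) - b)).toNat := by omega
  have key : ∀ m x y : ℕ, X 0 ^ (m + x) * X 1 ^ (m + y) - C (q ^ m) * (X 0 ^ x * X 1 ^ y)
      = ((X 0 * X 1) ^ m - (C q) ^ m) * (X 0 ^ x * X 1 ^ y : M2) := fun m x y => by
    rw [map_pow]; ring
  have h := key (min a b) ((a : ℤ) - b).toNat (-((a : ℤ) - b)).toNat
  rw [← ha, ← hb] at h
  rw [μ]
  rw [h, J0]
  exact Ideal.mul_mem_right _ _ (Ideal.mem_span_singleton.2 (sub_dvd_pow_sub_pow _ _ _))

lemma smul_eq_C_mul (a : ℤ) (g : M2) : a • g = C a * g := by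
  simp [zsmul_eq_mul]

lemma normal_form (g : M2) : ∃ c : ℤ →₀ ℤ, g - Φ c ∈ J0 q := by
  induction g using MvPolynomial.induction_on' with
  | monomial u a =>
    refine ⟨Finsupp.single ((u 0 : ℤ) - u 1) (a * q ^ min (u 0) (u 1)), ?_⟩
    have := (J0 q).mul_mem_left (C a) (red q (u 0) (u 1))
    convert this using 1
    rw [monomial_eq, Finsupp.prod_fintype _ _ (fun i => pow_zero _), Fin.prod_univ_two, Φ,
      Finsupp.linearCombination_single, smul_eq_C_mul, map_mul]
    ring
  | add p r hp hr =>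
    obtain ⟨c, hc⟩ := hp
    obtain ⟨d, hd⟩ := hr
    exact ⟨c + d, by convert (J0 q).add_mem hc hd using 1; rw [map_add]; ring⟩

/-- The embedding into Laurent polynomials. -/
def θ : M2 →ₐ[ℤ] LaurentPolynomial ℚ :=
  aeval ![LaurentPolynomial.T 1, LaurentPolynomial.C (q : ℚ) * LaurentPolynomial.T (-1)]

lemma θ_μ (n : ℤ) : θ q (μ n) = LaurentPolynomial.C ((w q n : ℤ) : ℚ) * LaurentPolynomial.T n := by
  rw [μ, θ, map_mul, map_pow, map_pow, aeval_X, aeval_X]
  simp only [Matrix.cons_val_zero, Matrix.cons_val_one]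
  rw [mul_pow, LaurentPolynomial.T_pow, LaurentPolynomial.T_pow, mul_left_comm,
    ← LaurentPolynomial.T_add, ← map_pow, w, Int.cast_pow]
  congr 2
  omega

lemma θ_J0 {g : M2} (hg : g ∈ J0 q) : θ q g = 0 := by
  obtain ⟨b, rfl⟩ := Ideal.mem_span_singleton.1 hg
  rw [map_mul, map_sub, map_mul, θ, aeval_X, aeval_X, aeval_C]
  simp only [Matrix.cons_val_zero, Matrix.cons_val_one]
  rw [mul_left_comm, ← LaurentPolynomial.T_add]
  simp

lemma coeff_θ_Φ (c : ℤ →₀ ℤ) (m : ℤ) :
    (θ q (Φ c)).coeff m = (c m : ℚ) * (w q m : ℚ) := by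
  induction c using Finsupp.induction_linear with
  | zero => simp
  | add c d hc hd => simp [map_add, hc, hd, add_mul]
  | single n a =>
    rw [Φ, Finsupp.linearCombination_single, map_zsmul, θ_μ, zsmul_eq_mul, ← map_intCast
      (LaurentPolynomial.C (R := ℚ)), ← mul_assoc, ← map_mul,
      ← LaurentPolynomial.single_eq_C_mul_T, AddMonoidAlgebra.coeff_single]
    rcases eq_or_ne n m with rfl | hnm
    · simp
    · simp [hnm]

lemma eq_zero_of_θ {c : ℤ →₀ ℤ} (hq : q ≠ 0) (h : θ q (Φ c) = 0) : c = 0 := by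
  ext m
  have := coeff_θ_Φ q c m
  rw [h] at this
  simpa [w, hq] using this.symm

lemma mem_J0_of_θ (hq : q ≠ 0) {g : M2} (h : θ q g = 0) : g ∈ J0 q := by
  obtain ⟨c, hc⟩ := normal_form q g
  have := θ_J0 q hc
  rw [map_sub, h, zero_sub, neg_eq_zero] at this
  rw [eq_zero_of_θ q hq this, map_zero, sub_zero] at hc
  exact hc

lemma coeff_aeval_T (P : Polynomial ℤ) (m : ℤ) :
    (Polynomial.aeval (LaurentPolynomial.T 1 : LaurentPolynomial ℚ) P).coeff m =
      if 0 ≤ m then (P.coeff m.toNat : ℚ) else 0 := by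
  induction P using Polynomial.induction_on' with
  | add a b ha hb => simp only [map_add, AddMonoidAlgebra.coeff_add, Finsupp.add_apply, ha, hb,
      Polynomial.coeff_add, Int.cast_add]; split <;> simp
  | monomial k a =>
    rw [Polynomial.aeval_monomial, LaurentPolynomial.T_pow, mul_one,
      eq_intCast (algebraMap ℤ (LaurentPolynomial ℚ)), ← map_intCast (LaurentPolynomial.C (R := ℚ)),
      ← LaurentPolynomial.single_eq_C_mul_T, AddMonoidAlgebra.coeff_single,
      Polynomial.coeff_monomial]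
    rcases eq_or_ne ((k : ℤ)) m with rfl | hkm
    · simp
    · rw [Finsupp.single_eq_of_ne hkm.symm]
      split
      · rw [if_neg (by omega)]; simp
      · rfl

lemma coeff_T_mul (D : ℤ) (f : LaurentPolynomial ℚ) (m : ℤ) :
    (LaurentPolynomial.T D * f).coeff (D + m) = f.coeff m := by
  induction f using LaurentPolynomial.induction_on' with
  | add a b ha hb => simp only [mul_add, AddMonoidAlgebra.coeff_add, Finsupp.add_apply, ha, hb]
  | C_mul_T n a =>
    rw [mul_left_comm, ← LaurentPolynomial.T_add]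
    simp only [← LaurentPolynomial.single_eq_C_mul_T, AddMonoidAlgebra.coeff_single]
    rcases eq_or_ne n m with rfl | hnm
    · simp
    · simp [hnm]

variable {q}

/-- The hypothesis on `h`. -/
structure Datum (q : ℤ) (D : ℕ) (P : Polynomial ℤ) (h : M2) : Prop where
  q_ne : q ≠ 0
  monic : P.Monic
  deg : P.natDegree = 2 * D
  const : (P.coeff 0).natAbs = (q ^ D).natAbs
  cong : X 0 ^ D * h - Polynomial.aeval (X 0 : M2) P ∈ J0 q

namespace Datum

variable {D : ℕ} {P : Polynomial ℤ} {h : M2} (hd : Datum q D P h)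
include hd

lemma T_mul_θ : LaurentPolynomial.T (D : ℤ) * θ q h =
    Polynomial.aeval (LaurentPolynomial.T 1 : LaurentPolynomial ℚ) P := by
  have := θ_J0 q hd.cong
  rw [map_sub, map_mul, map_pow, sub_eq_zero, ← Polynomial.aeval_algHom_apply] at this
  rw [show θ q (X 0) = LaurentPolynomial.T 1 by simp [θ]] at this
  rw [← this, LaurentPolynomial.T_pow, mul_one]

lemma θ_ne_zero : θ q h ≠ 0 := by
  intro h0
  have := congrArg (fun f : LaurentPolynomial ℚ => f.coeff ((2 * D : ℕ) : ℤ)) hd.T_mul_θ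
  simp only [h0, mul_zero, coeff_aeval_T, AddMonoidAlgebra.coeff_zero, Finsupp.coe_zero,
    Pi.zero_apply, Int.natCast_nonneg, if_true, Int.toNat_natCast] at this
  rw [← hd.deg, hd.monic.coeff_natDegree] at this
  norm_num at this

/-- The normal form of `h`. -/
lemma exists_coeffs : ∃ c : ℤ →₀ ℤ, h - Φ c ∈ J0 q ∧
    (∀ n, c n ≠ 0 → -(D : ℤ) ≤ n ∧ n ≤ D) ∧ c D = 1 ∧ IsUnit (c (-(D : ℤ))) := by
  obtain ⟨c, hc⟩ := normal_form q h
  have hθ : θ q h = θ q (Φ c) := by
    have := θ_J0 q hc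
    rwa [map_sub, sub_eq_zero] at this
  have key : ∀ n : ℤ, c n * w q n =
      if 0 ≤ (D : ℤ) + n then P.coeff ((D : ℤ) + n).toNat else 0 := fun n => by
    have := coeff_T_mul (D : ℤ) (θ q h) n
    rw [hd.T_mul_θ, coeff_aeval_T, hθ, coeff_θ_Φ] at this
    rcases le_or_gt 0 ((D : ℤ) + n) with hn | hn
    · rw [if_pos hn] at this ⊢
      exact_mod_cast this.symm
    · rw [if_neg hn.not_ge] at this ⊢
      exact_mod_cast this.symm
  have hw : ∀ n, w q n ≠ 0 := fun n => pow_ne_zero _ hd.q_ne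
  refine ⟨c, hc, fun n hn => ?_, ?_, ?_⟩
  · have h1 := key n
    by_contra hcon
    apply hn
    have h2 : c n * w q n = 0 := by
      rw [h1]
      split
      · exact Polynomial.coeff_eq_zero_of_natDegree_lt (by rw [hd.deg]; omega)
      · rfl
    exact (mul_eq_zero.1 h2).resolve_right (hw n)
  · have h1 := key D
    rw [if_pos (by positivity), show ((D : ℤ) + D).toNat = P.natDegree by rw [hd.deg]; omega,
      hd.monic.coeff_natDegree, w, show (-(D : ℤ)).toNat = 0 by omega, pow_zero, mul_one] at h1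
    exact h1
  · have h1 := key (-(D : ℤ))
    rw [if_pos (by omega), show ((D : ℤ) + -D).toNat = 0 by omega, w,
      show (-(-(D : ℤ))).toNat = D by omega] at h1
    have h2 := hd.const
    rw [← h1, Int.natAbs_mul, mul_eq_right₀ (by simp [hd.q_ne])] at h2
    exact Int.isUnit_iff_natAbs_eq.2 h2

/-- The ideal `(FV - q, h)`. -/
lemma J0_le : J0 q ≤ Ideal.span {X 0 * X 1 - C q, h} :=
  Ideal.span_mono (by simp)

/-- Everything is congruent to a combination of `μ n`, `-D ≤ n < D`, modulo `(FV - q, h)`. -/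
lemma exists_reduced (g : M2) : ∃ c : ℤ →₀ ℤ, (∀ n, c n ≠ 0 → -(D : ℤ) ≤ n ∧ n < D) ∧
    g - Φ c ∈ Ideal.span {X 0 * X 1 - C q, h} := by
  set J : Ideal M2 := Ideal.span {X 0 * X 1 - C q, h} with hJ
  set W : Submodule ℤ M2 :=
    J.restrictScalars ℤ ⊔ Submodule.span ℤ (μ '' Set.Ico (-(D : ℤ)) D) with hW
  have hJW : ∀ x ∈ J, x ∈ W := fun x hx => Submodule.mem_sup_left hx
  have hIco : ∀ n : ℤ, -(D : ℤ) ≤ n → n < D → μ n ∈ W := fun n h1 h2 =>
    Submodule.mem_sup_right (Submodule.subset_span ⟨n, ⟨h1, h2⟩, rfl⟩)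
  obtain ⟨c, hc, hsupp, hcD, hcu⟩ := hd.exists_coeffs
  have hh : h ∈ J := Ideal.subset_span (by simp)
  have hΦ : Φ c ∈ J := by
    have := J.sub_mem hh (J0_le hd hc)
    rwa [sub_sub_cancel] at this
  have hΦerase : ∀ (n₀ : ℤ) (f : M2 →ₗ[ℤ] M2),
      (∀ n, n ≠ n₀ → -(D : ℤ) ≤ n → n ≤ D → f (μ n) ∈ W) → f (Φ (c.erase n₀)) ∈ W := by
    intro n₀ f hf
    rw [Φ, Finsupp.apply_linearCombination, Finsupp.linearCombination_apply]
    refine W.finsuppSum_mem _ _ _ fun n hn => W.smul_mem _ ?_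
    have hne : n ≠ n₀ := by rintro rfl; simp at hn
    rw [Finsupp.erase_ne hne] at hn
    exact hf n hne (hsupp n hn).1 (hsupp n hn).2
  have hsplit : ∀ n₀, Φ c = c n₀ • μ n₀ + Φ (c.erase n₀) := fun n₀ => by
    conv_lhs => rw [← Finsupp.single_add_erase n₀ c]
    rw [map_add, Φ, Finsupp.linearCombination_single]
  have hD : μ D ∈ W := by
    have h1 : Φ c - Φ (c.erase (D : ℤ)) ∈ W := W.sub_mem (hJW _ hΦ)
      (hΦerase D LinearMap.id fun n hn h1 h2 => hIco n h1 (lt_of_le_of_ne h2 hn))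
    rwa [hsplit D, add_sub_cancel_right, hcD, one_smul] at h1
  have hred : ∀ (i : Fin 2) (n m : ℤ), (i = 0 → m = n + 1) → (i = 1 → m = n - 1) →
      μ m ∈ W → X i * μ n ∈ W := by
    intro i n m h0 h1 hm
    fin_cases i
    · have e : X 0 * μ n = X 0 ^ (n.toNat + 1) * X 1 ^ (-n).toNat := by rw [μ]; ring
      have r := red q (n.toNat + 1) (-n).toNat
      rw [show ((n.toNat + 1 : ℕ) : ℤ) - ((-n).toNat : ℕ) = m by
        have := h0 rfl; omega, ← smul_eq_C_mul] at r
      have := W.add_mem (hJW _ (J0_le hd r)) (W.smul_mem (q ^ min (n.toNat + 1) (-n).toNat) hm)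
      rw [sub_add_cancel, ← e] at this
      exact this
    · have e : X 1 * μ n = X 0 ^ n.toNat * X 1 ^ ((-n).toNat + 1) := by rw [μ]; ring
      have r := red q n.toNat ((-n).toNat + 1)
      rw [show ((n.toNat : ℕ) : ℤ) - (((-n).toNat + 1 : ℕ)) = m by
        have := h1 rfl; omega, ← smul_eq_C_mul] at r
      have := W.add_mem (hJW _ (J0_le hd r)) (W.smul_mem (q ^ min n.toNat ((-n).toNat + 1)) hm)
      rw [sub_add_cancel, ← e] at this
      exact this
  have hneg : μ (-(D : ℤ) - 1) ∈ W := by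
    have h1 : X 1 * Φ c - X 1 * Φ (c.erase (-(D : ℤ))) ∈ W := by
      refine W.sub_mem (hJW _ (J.mul_mem_left _ hΦ)) ?_
      refine hΦerase (-(D : ℤ)) (LinearMap.mulLeft ℤ (X 1)) fun n hn h1 h2 => ?_
      exact hred 1 n (n - 1) (fun h => absurd h (by decide)) (fun _ => rfl)
        (hIco _ (by omega) (by omega))
    rw [hsplit (-(D : ℤ)), mul_add, add_sub_cancel_right, mul_smul_comm] at h1
    have e : X 1 * μ (-(D : ℤ)) = μ (-(D : ℤ) - 1) := by
      rw [μ, μ, show (-(-(D : ℤ) - 1)).toNat = (-(-(D : ℤ))).toNat + 1 by omega,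
        show (-(D : ℤ) - 1).toNat = (-(D : ℤ)).toNat by omega]
      ring
    rw [e] at h1
    rcases Int.isUnit_iff.1 hcu with hu | hu <;> rw [hu] at h1
    · simpa using h1
    · simpa using h1
  have hmul : ∀ (i : Fin 2), ∀ x ∈ W, X i * x ∈ W := by
    intro i x hx
    have : W ≤ W.comap (LinearMap.mulLeft ℤ (X i : M2)) := by
      refine sup_le (fun y hy => hJW _ (J.mul_mem_left _ hy)) (Submodule.span_le.2 ?_)
      rintro _ ⟨n, ⟨h1, h2⟩, rfl⟩
      fin_cases i
      · refine hred 0 n (n + 1) (fun _ => rfl) (fun h => absurd h (by decide)) ?_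
        rcases eq_or_lt_of_le (show n + 1 ≤ (D : ℤ) by omega) with h3 | h3
        · rw [h3]; exact hD
        · exact hIco _ (by omega) h3
      · refine hred 1 n (n - 1) (fun h => absurd h (by decide)) (fun _ => rfl) ?_
        rcases eq_or_lt_of_le (show -(D : ℤ) - 1 ≤ n - 1 by omega) with h3 | h3
        · rw [← h3]; exact hneg
        · exact hIco _ (by omega) (by omega)
    exact this hx
  have h1 : (1 : M2) ∈ W := by
    rcases Nat.eq_zero_or_pos D with h0 | h0
    · simpa [μ, h0] using hD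
    · simpa [μ] using hIco 0 (by omega) (by omega)
  have hall : g ∈ W := by
    induction g using MvPolynomial.induction_on with
    | C a => simpa [smul_eq_C_mul] using W.smul_mem a h1
    | add a b ha hb => exact W.add_mem ha hb
    | mul_X a i ha => rw [mul_comm]; exact hmul i a ha
  obtain ⟨a, ha, b, hb, rfl⟩ := Submodule.mem_sup.1 hall
  obtain ⟨l, hl, rfl⟩ := (Finsupp.mem_span_image_iff_linearCombination ℤ).1 hb
  refine ⟨l, fun n hn => hl (Finsupp.mem_support_iff.2 hn), ?_⟩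
  change a + Φ l - Φ l ∈ J
  rwa [add_sub_cancel_right]

end Datum

section Family

variable {ι : Type} [Fintype ι] {K : ι → Type u} [∀ i, Field (K i)] [∀ i, CharZero (K i)]
  (q : ℤ) (π : ∀ i, K i)

/-- The hypotheses on the family, with `q` an integer. -/
structure Family (q : ℤ) (π : ∀ i, K i) (D : ℕ) : Prop where
  q_ne : q ≠ 0
  int : ∀ i, IsIntegral ℤ (π i)
  ne : ∀ i, π i ≠ 0
  inj : ∀ i j, minpoly ℤ (π i) = minpoly ℤ (π j) → i = j
  deg : ∑ i, (minpoly ℤ (π i)).natDegree = 2 * D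

variable {q π} {D : ℕ} (hf : Family q π D)
include hf

omit [∀ i, CharZero (K i)] in
lemma eval_μ (e : ∀ i, MvPolynomial (Fin 2) ℤ →ₐ[ℤ] K i) (h0 : ∀ i, e i (X 0) = π i)
    (h1 : ∀ i, e i (X 1) = (q : K i) / π i) (i : ι) (n : ℤ) (hn : -(D : ℤ) ≤ n) :
    π i ^ D * e i (μ n) = (w q n : K i) * π i ^ ((D : ℤ) + n).toNat := by
  rw [μ, map_mul, map_pow, map_pow, h0, h1, w, Int.cast_pow, div_pow, ← mul_assoc, ← pow_add,
    mul_div_assoc', div_eq_iff (pow_ne_zero _ (hf.ne i)), mul_assoc, ← pow_add,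
    mul_comm (_ ^ _ : K i)]
  congr 2
  omega

/-- The `μ n`, `-D ≤ n < D`, are linearly independent on the family. -/
lemma indep (e : ∀ i, MvPolynomial (Fin 2) ℤ →ₐ[ℤ] K i) (h0 : ∀ i, e i (X 0) = π i)
    (h1 : ∀ i, e i (X 1) = (q : K i) / π i) (c : ℤ →₀ ℤ)
    (hc : ∀ n, c n ≠ 0 → -(D : ℤ) ≤ n ∧ n < D) (hz : ∀ i, e i (Φ c) = 0) : c = 0 := by
  classical
  set R : Polynomial ℤ :=
    c.sum fun n a => Polynomial.monomial ((D : ℤ) + n).toNat (a * w q n) with hR
  have hev : ∀ i, Polynomial.aeval (π i) R = 0 := fun i => by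
    have h2 : π i ^ D * e i (Φ c) = 0 := by rw [hz i, mul_zero]
    rw [Φ, Finsupp.linearCombination_apply, map_finsuppSum, Finsupp.mul_sum] at h2
    rw [hR, map_finsuppSum, ← h2]
    refine Finsupp.sum_congr fun n hn => ?_
    rw [Polynomial.aeval_monomial, map_zsmul, zsmul_eq_mul, mul_left_comm,
      eval_μ hf e h0 h1 i n (hc n (Finsupp.mem_support_iff.1 hn)).1, map_mul]
    simp only [algebraMap_int_eq, eq_intCast]
    ring
  have hdvd : (∏ i, minpoly ℤ (π i)) ∣ R := by
    refine Fintype.prod_dvd_of_isRelPrime (fun i j hij => ?_) fun i =>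
      minpoly.isIntegrallyClosed_dvd (hf.int i) (hev i)
    refine ((minpoly.irreducible (hf.int i)).isRelPrime_iff_not_dvd).2 fun hd => ?_
    exact hij (hf.inj i j (Polynomial.eq_of_monic_of_associated (minpoly.monic (hf.int i))
      (minpoly.monic (hf.int j))
      ((minpoly.irreducible (hf.int i)).associated_of_dvd (minpoly.irreducible (hf.int j)) hd)))
  have hm : (∏ i, minpoly ℤ (π i)).Monic :=
    Polynomial.monic_prod_of_monic _ _ fun i _ => minpoly.monic (hf.int i)
  have hdeg : (∏ i, minpoly ℤ (π i)).natDegree = 2 * D := by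
    rw [Polynomial.natDegree_prod_of_monic _ _ fun i _ => minpoly.monic (hf.int i), hf.deg]
  have hR0 : R = 0 := by
    refine Polynomial.eq_zero_of_dvd_of_degree_lt hdvd ?_
    rw [Polynomial.degree_eq_natDegree hm.ne_zero, hdeg]
    rw [hR, Finsupp.sum]
    refine (Polynomial.degree_sum_le _ _).trans_lt ?_
    rw [Finset.sup_lt_iff (WithBot.bot_lt_coe _)]
    intro n hn
    refine (Polynomial.degree_monomial_le _ _).trans_lt ?_
    have := hc n (Finsupp.mem_support_iff.1 hn)
    exact Nat.cast_lt.2 (by omega)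
  ext m
  by_contra hm0
  have := congrArg (fun r : Polynomial ℤ => r.coeff ((D : ℤ) + m).toNat) hR0
  simp only [hR, Finsupp.sum, Polynomial.finsetSum_coeff, Polynomial.coeff_zero] at this
  rw [Finset.sum_eq_single m] at this
  · rw [Polynomial.coeff_monomial, if_pos rfl] at this
    exact hm0 (by simpa [w, hf.q_ne] using this)
  · intro n hn hne
    rw [Polynomial.coeff_monomial, if_neg]
    have := hc n (Finsupp.mem_support_iff.1 hn)
    have := hc m hm0
    omega
  · intro h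
    exact absurd (Finsupp.mem_support_iff.2 hm0) h

end Family

end Groth.Agent.WeilNum
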