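import Mathlib
import Groth.Agent.WeilNum.Basic

/-!
# Weil numbers: functional equation, kernel of the presentation of the minimal central order
-/

set_option autoImplicit false
universe u

open MvPolynomial
open scoped ComplexConjugate Pointwise

noncomputable section

namespace Groth.Agent.WeilNum

local notation "M2" => MvPolynomial (Fin 2) ℤ

/-- The functional equation of a monic integral polynomial all of whose roots have absolute value
`√q`, in the even degree `2 D`. -/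
lemma functional_equation (P : Polynomial ℤ) (hP : P.Monic) (D : ℕ) (hD : P.natDegree = 2 * D)
    (q : ℕ) (hq : 0 < q) (hroots : ∀ z : ℂ, Polynomial.aeval z P = 0 → ‖z‖ = Real.sqrt q) :
    ∃ ε : ℤ, IsUnit ε ∧ P.coeff 0 = ε * (q : ℤ) ^ D ∧
      ∀ r ≤ D, P.coeff (D - r) = ε * (q : ℤ) ^ r * P.coeff (D + r) := by
  classical
  set Pc := P.map (algebraMap ℤ ℂ) with hPc
  have hm : Pc.Monic := hP.map _
  have hs : Pc.Splits := IsAlgClosed.splits _
  have hdeg : Pc.natDegree = 2 * D := by rw [hPc, hP.natDegree_map, hD]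
  have hcard : Multiset.card Pc.roots = 2 * D := by rw [← hs.natDegree_eq_card_roots, hdeg]
  have hz : ∀ z ∈ Pc.roots, z * conj z = (q : ℂ) ∧ ‖z‖ = Real.sqrt q := by
    intro z hz
    have h0 : Polynomial.aeval z P = 0 := by
      have := Polynomial.isRoot_of_mem_roots hz
      rwa [hPc, Polynomial.IsRoot.def, Polynomial.eval_map, ← Polynomial.aeval_def] at this
    refine ⟨?_, hroots z h0⟩
    rw [Complex.mul_conj', hroots z h0, ← Complex.ofReal_pow, Real.sq_sqrt (Nat.cast_nonneg _),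
      Complex.ofReal_natCast]
  have heval : ∀ y : ℂ, Pc.eval y = (Pc.roots.map fun z => y - z).prod := by
    intro y
    conv_lhs => rw [hs.eq_prod_roots_of_monic hm]
    rw [Polynomial.eval_multiset_prod, Multiset.map_map]
    simp [Function.comp_def]
  have hconj : ∀ y : ℂ, Pc.eval y = (Pc.roots.map fun z => y - conj z).prod := by
    intro y
    have h1 : conj (Pc.eval (conj y)) = Pc.eval y := by
      rw [hPc, Polynomial.eval_map, Polynomial.eval_map, Polynomial.hom_eval₂]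
      rw [RingHom.ext_int ((starRingEnd ℂ).comp (algebraMap ℤ ℂ)) (algebraMap ℤ ℂ), Complex.conj_conj]
    rw [← h1, heval, map_multiset_prod, Multiset.map_map]
    simp [Function.comp_def]
  have h0 : (P.coeff 0 : ℂ) = (Pc.roots.map fun z => -z).prod := by
    have := heval 0
    rw [← Polynomial.coeff_zero_eq_eval_zero, hPc, Polynomial.coeff_map, ← hPc] at this
    simpa using this
  set A : Polynomial ℂ := ∑ k ∈ Finset.range (2 * D + 1),
    Polynomial.monomial (2 * D - k) ((P.coeff k : ℂ) * (q : ℂ) ^ k) with hA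
  have hid : A = Polynomial.C (P.coeff 0 : ℂ) * Pc := by
    refine Polynomial.eq_of_infinite_eval_eq _ _ ((Set.finite_singleton (0 : ℂ)).infinite_compl.mono
      fun x hx => ?_)
    have hx0 : x ≠ 0 := hx
    change A.eval x = _
    have h1 : A.eval x = x ^ (2 * D) * Pc.eval ((q : ℂ) / x) := by
      rw [hA, Polynomial.eval_finsetSum, Polynomial.eval_eq_sum_range, hdeg, Finset.mul_sum]
      refine Finset.sum_congr rfl fun k hk => ?_
      rw [Finset.mem_range] at hk
      rw [Polynomial.eval_monomial, hPc, Polynomial.coeff_map, eq_intCast, div_pow,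
        ← Nat.sub_add_cancel (show k ≤ 2 * D by omega), Nat.add_sub_cancel, pow_add]
      field_simp
    rw [h1, Polynomial.eval_mul, Polynomial.eval_C, h0, hconj x, heval, ← hcard]
    calc x ^ Multiset.card Pc.roots * (Pc.roots.map fun z => (q : ℂ) / x - z).prod
        = (Pc.roots.map fun z => x * ((q : ℂ) / x - z)).prod := by
          rw [Multiset.prod_map_mul, Multiset.map_const', Multiset.prod_replicate]
      _ = (Pc.roots.map fun z => -z * (x - conj z)).prod := by
          refine congrArg Multiset.prod (Multiset.map_congr rfl fun z hz' => ?_)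
          rw [mul_sub, mul_div_cancel₀ _ hx0, ← (hz z hz').1]
          ring
      _ = _ := Multiset.prod_map_mul
  have hn0 : ‖(P.coeff 0 : ℂ)‖ = (q : ℝ) ^ D := by
    rw [h0, ← normHom_apply, map_multiset_prod, Multiset.map_map,
      Multiset.map_congr rfl (fun z hz' => by
        rw [Function.comp_apply, normHom_apply, norm_neg, (hz z hz').2]),
      Multiset.map_const', Multiset.prod_replicate, hcard, pow_mul,
      Real.sq_sqrt (Nat.cast_nonneg _)]
  have habs : (P.coeff 0).natAbs = q ^ D := by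
    rw [Complex.norm_intCast] at hn0
    have : |P.coeff 0| = ((q ^ D : ℕ) : ℤ) := by exact_mod_cast hn0
    rw [Int.abs_eq_natAbs] at this
    exact_mod_cast this
  obtain ⟨ε, hε, hP0⟩ : ∃ ε : ℤ, IsUnit ε ∧ P.coeff 0 = ε * (q : ℤ) ^ D := by
    rcases Int.natAbs_eq (P.coeff 0) with h | h
    · exact ⟨1, isUnit_one, by rw [h, habs]; simp⟩
    · exact ⟨-1, isUnit_one.neg, by rw [h, habs]; simp⟩
  refine ⟨ε, hε, hP0, fun r hr => ?_⟩
  have h := congrArg (fun f : Polynomial ℂ => f.coeff (2 * D - (D - r))) hid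
  simp only [hA, Polynomial.finsetSum_coeff, Polynomial.coeff_C_mul, hPc,
    Polynomial.coeff_map, eq_intCast] at h
  rw [Finset.sum_eq_single (D - r), Polynomial.coeff_monomial, if_pos rfl] at h
  · rw [show 2 * D - (D - r) = D + r by omega, hP0] at h
    have h' : P.coeff (D - r) * (q : ℤ) ^ (D - r) = ε * (q : ℤ) ^ D * P.coeff (D + r) := by
      exact_mod_cast h
    have hqd : ((q : ℤ) ^ (D - r)) ≠ 0 := pow_ne_zero _ (by omega)
    refine mul_right_cancel₀ hqd (h'.trans ?_)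
    rw [show (q : ℤ) ^ D = q ^ r * q ^ (D - r) by rw [← pow_add]; congr 1; omega]
    ring
  · intro k hk hne
    rw [Finset.mem_range] at hk
    rw [Polynomial.coeff_monomial, if_neg (by omega)]
  · intro h'
    exact absurd (Finset.mem_range.2 (by omega)) h'

/-- The symmetric polynomial of a polynomial satisfying the functional equation. -/
lemma exists_sym (P : Polynomial ℤ) (D : ℕ) (hD : P.natDegree = 2 * D) (q ε : ℤ)
    (hfe : ∀ r ≤ D, P.coeff (D - r) = ε * q ^ r * P.coeff (D + r)) :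
    ∃ h : M2, X 0 ^ D * h - Polynomial.aeval (X 0 : M2) P ∈ J0 q := by
  refine ⟨∑ k ∈ Finset.range (2 * D + 1), if D ≤ k then C (P.coeff k) * X 0 ^ (k - D)
    else C (ε * P.coeff (2 * D - k)) * X 1 ^ (D - k), ?_⟩
  rw [Polynomial.aeval_eq_sum_range, hD, Finset.mul_sum, ← Finset.sum_sub_distrib]
  refine Ideal.sum_mem _ fun k hk => ?_
  rw [Finset.mem_range] at hk
  rw [smul_eq_C_mul]
  split
  next h =>
    have e : (X 0 : M2) ^ k = X 0 ^ D * X 0 ^ (k - D) := by
      rw [← pow_add]; congr 1; omega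
    rw [e]
    convert (J0 q).zero_mem using 1
    ring
  next h =>
    have e : P.coeff k = ε * q ^ (D - k) * P.coeff (2 * D - k) := by
      have := hfe (D - k) (Nat.sub_le _ _)
      rwa [show D - (D - k) = k by omega, show D + (D - k) = 2 * D - k by omega] at this
    have e2 : (X 0 : M2) ^ D = X 0 ^ (D - k) * X 0 ^ k := by rw [← pow_add]; congr 1; omega
    rw [e, e2, map_mul, map_mul, map_mul, map_pow]
    have : (X 0 * X 1 : M2) ^ (D - k) - (C q) ^ (D - k) ∈ J0 q :=
      Ideal.mem_span_singleton.2 (sub_dvd_pow_sub_pow _ _ _)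
    convert (J0 q).mul_mem_left (C ε * C (P.coeff (2 * D - k)) * X 0 ^ k) this using 1
    ring

section

variable {p e : ℕ} {ι : Type} [Fintype ι] {K : ι → Type u} [∀ i, Field (K i)]
  [∀ i, CharZero (K i)] {π : ∀ i, K i} {D : ℕ}

lemma norm_root_prod (hint : ∀ i, IsIntegral ℤ (π i))
    (hweil : ∀ i, ∀ z ∈ (minpoly ℤ (π i)).aroots ℂ, ‖z‖ = Real.sqrt ((p : ℝ) ^ e))
    (z : ℂ) (hz : Polynomial.aeval z (∏ i, minpoly ℤ (π i)) = 0) :
    ‖z‖ = Real.sqrt ((p ^ e : ℕ) : ℝ) := by
  rw [map_prod, Finset.prod_eq_zero_iff] at hz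
  obtain ⟨i, -, hi⟩ := hz
  push_cast
  refine hweil i z (Polynomial.mem_aroots'.2 ⟨?_, hi⟩)
  exact ((minpoly.monic (hint i)).map _).ne_zero

lemma family (hp : 0 < p) (hint : ∀ i, IsIntegral ℤ (π i))
    (hweil : ∀ i, ∀ z ∈ (minpoly ℤ (π i)).aroots ℂ, ‖z‖ = Real.sqrt ((p : ℝ) ^ e))
    (hinj : ∀ i j, minpoly ℤ (π i) = minpoly ℤ (π j) → i = j)
    (hD : ∑ i, (minpoly ℤ (π i)).natDegree = 2 * D) : Family ((p : ℤ) ^ e) π D where
  q_ne := pow_ne_zero _ (by omega)
  int := hint
  ne := fun i h0 => by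
    have hdvd : minpoly ℤ (π i) ∣ Polynomial.X :=
      minpoly.isIntegrallyClosed_dvd (hint i) (by rw [Polynomial.aeval_X, h0])
    have hassoc := (minpoly.irreducible (hint i)).associated_of_dvd Polynomial.irreducible_X hdvd
    have he := Polynomial.eq_of_monic_of_associated (minpoly.monic (hint i)) Polynomial.monic_X hassoc
    have := hweil i 0 (by rw [he]; simp)
    rw [norm_zero] at this
    exact absurd this.symm (Real.sqrt_ne_zero'.2 (pow_pos (Nat.cast_pos.2 hp) _))
  inj := hinj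
  deg := hD

lemma monic_prod (hint : ∀ i, IsIntegral ℤ (π i)) : (∏ i, minpoly ℤ (π i)).Monic :=
  Polynomial.monic_prod_of_monic _ _ fun i _ => minpoly.monic (hint i)

omit [∀ i, CharZero (K i)] in
lemma natDegree_prod (hint : ∀ i, IsIntegral ℤ (π i))
    (hD : ∑ i, (minpoly ℤ (π i)).natDegree = 2 * D) :
    (∏ i, minpoly ℤ (π i)).natDegree = 2 * D := by
  rw [Polynomial.natDegree_prod_of_monic _ _ fun i _ => minpoly.monic (hint i), hD]

/-- A polynomial `h` with `F ^ D h ≡ P_w` gives a datum. -/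
lemma datum (hp : 0 < p) (hint : ∀ i, IsIntegral ℤ (π i))
    (hweil : ∀ i, ∀ z ∈ (minpoly ℤ (π i)).aroots ℂ, ‖z‖ = Real.sqrt ((p : ℝ) ^ e))
    (hD : ∑ i, (minpoly ℤ (π i)).natDegree = 2 * D) (h : M2)
    (hh : X 0 ^ D * h - Polynomial.aeval (X 0 : M2) (∏ i, minpoly ℤ (π i)) ∈
      J0 ((p : ℤ) ^ e)) : Datum ((p : ℤ) ^ e) D (∏ i, minpoly ℤ (π i)) h where
  q_ne := pow_ne_zero _ (by omega)
  monic := monic_prod hint
  deg := natDegree_prod hint hD
  const := by
    obtain ⟨ε, hε, h0, -⟩ := functional_equation _ (monic_prod hint) D (natDegree_prod hint hD)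
      (p ^ e) (pow_pos hp _) (norm_root_prod hint hweil)
    rw [h0, Int.natAbs_mul, Int.isUnit_iff_natAbs_eq.1 hε, one_mul]
    push_cast
    rfl
  cong := hh

lemma exists_datum (hp : 0 < p) (hint : ∀ i, IsIntegral ℤ (π i))
    (hweil : ∀ i, ∀ z ∈ (minpoly ℤ (π i)).aroots ℂ, ‖z‖ = Real.sqrt ((p : ℝ) ^ e))
    (hD : ∑ i, (minpoly ℤ (π i)).natDegree = 2 * D) :
    ∃ h : M2, Datum ((p : ℤ) ^ e) D (∏ i, minpoly ℤ (π i)) h := by
  obtain ⟨ε, -, -, hfe⟩ := functional_equation _ (monic_prod hint) D (natDegree_prod hint hD)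
    (p ^ e) (pow_pos hp _) (norm_root_prod hint hweil)
  obtain ⟨h, hh⟩ := exists_sym _ D (natDegree_prod hint hD) ((p : ℤ) ^ e) ε
    (fun r hr => by have := hfe r hr; push_cast at this; exact this)
  exact ⟨h, datum hp hint hweil hD h hh⟩

end

/-- The presentation map. -/
def Ev (p e : ℕ) {ι : Type} {K : ι → Type u} [∀ i, Field (K i)] (π : ∀ i, K i) :
    M2 →ₐ[ℤ] ((i : ι) → K i) :=
  aeval ![fun i => π i, fun i => ((p : K i) ^ e) / π i]

section

variable {p e : ℕ} {ι : Type} [Fintype ι] {K : ι → Type u} [∀ i, Field (K i)]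
  [∀ i, CharZero (K i)] {π : ∀ i, K i} {D : ℕ} {h : M2}

lemma Ev_indep (hf : Family ((p : ℤ) ^ e) π D) (c : ℤ →₀ ℤ)
    (hc : ∀ n, c n ≠ 0 → -(D : ℤ) ≤ n ∧ n < D) (hz : Ev p e π (Φ c) = 0) : c = 0 := by
  refine indep hf (fun i => (Pi.evalAlgHom ℤ K i).comp (Ev p e π)) (fun i => ?_) (fun i => ?_)
    c hc (fun i => ?_)
  · simp [Ev]
  · simp [Ev]
  · simp [hz]

lemma span_le_ker (hf : Family ((p : ℤ) ^ e) π D)
    (hd : Datum ((p : ℤ) ^ e) D (∏ i, minpoly ℤ (π i)) h) :
    Ideal.span {X 0 * X 1 - C ((p : ℤ) ^ e), h} ≤ RingHom.ker (Ev p e π) := by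
  classical
  have h0 : J0 ((p : ℤ) ^ e) ≤ RingHom.ker (Ev p e π) := by
    rw [J0, Ideal.span_le, Set.singleton_subset_iff]
    change Ev p e π _ = 0
    funext i
    simp [Ev, mul_div_cancel₀ _ (hf.ne i)]
  refine Ideal.span_le.2 ?_
  rintro g (rfl | rfl)
  · exact h0 (Ideal.subset_span rfl)
  change Ev p e π g = 0
  funext i
  have h1 : Ev p e π (X 0 ^ D * g - Polynomial.aeval (X 0 : M2) (∏ i, minpoly ℤ (π i))) = 0 :=
    h0 hd.cong
  have h2 := congrArg (Pi.evalAlgHom ℤ K i) h1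
  simp only [map_sub, map_mul, map_pow, map_zero, ← Polynomial.aeval_algHom_apply] at h2
  have hX : Pi.evalAlgHom ℤ K i (Ev p e π (X 0)) = π i := by simp [Ev]
  rw [hX, map_prod, Finset.prod_eq_zero (Finset.mem_univ i) (minpoly.aeval ℤ (π i)), sub_zero,
    mul_eq_zero] at h2
  exact h2.resolve_left (pow_ne_zero _ (hf.ne i))

lemma ker_Ev (hf : Family ((p : ℤ) ^ e) π D)
    (hd : Datum ((p : ℤ) ^ e) D (∏ i, minpoly ℤ (π i)) h) :
    RingHom.ker (Ev p e π) = Ideal.span {X 0 * X 1 - C ((p : ℤ) ^ e), h} := by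
  refine le_antisymm (fun g hg => ?_) (span_le_ker hf hd)
  obtain ⟨c, hc, hgc⟩ := hd.exists_reduced g
  have h1 := span_le_ker hf hd hgc
  rw [RingHom.mem_ker, map_sub, RingHom.mem_ker.1 hg, zero_sub, neg_eq_zero] at h1
  rw [Ev_indep hf c hc h1, map_zero, sub_zero] at hgc
  exact hgc

end

/-- `FV - q` and `h` form a weakly regular sequence. -/
lemma isWeaklyRegular {q : ℤ} {D : ℕ} {P : Polynomial ℤ} {h : M2} (hd : Datum q D P h) :
    RingTheory.Sequence.IsWeaklyRegular M2 [X 0 * X 1 - C q, h] := by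
  rw [RingTheory.Sequence.isWeaklyRegular_cons_iff]
  refine ⟨?_, ?_⟩
  · refine isSMulRegular_iff_right_eq_zero_of_smul.2 fun x hx => ?_
    refine (mul_eq_zero.1 hx).resolve_left fun h0 => hd.q_ne ?_
    simpa using congrArg (MvPolynomial.constantCoeff) h0
  rw [RingTheory.Sequence.isWeaklyRegular_cons_iff]
  refine ⟨?_, RingTheory.Sequence.IsWeaklyRegular.nil _ _⟩
  refine isSMulRegular_iff_right_eq_zero_of_smul.2 fun x hx => ?_
  obtain ⟨y, rfl⟩ := Submodule.mkQ_surjective _ x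
  rw [← map_smul, Submodule.mkQ_apply, Submodule.Quotient.mk_eq_zero] at hx
  rw [Submodule.mkQ_apply, Submodule.Quotient.mk_eq_zero]
  have key : ∀ z : M2, z ∈ ((X 0 * X 1 - C q : M2)) • (⊤ : Submodule M2 M2) ↔ z ∈ J0 q := fun z => by
    rw [Submodule.mem_smul_pointwise_iff_exists, J0, Ideal.mem_span_singleton]
    exact ⟨fun ⟨b, _, hb⟩ => ⟨b, hb.symm⟩, fun ⟨b, hb⟩ => ⟨b, trivial, hb.symm⟩⟩
  rw [key] at hx ⊢
  have := θ_J0 q hx
  rw [smul_eq_mul, map_mul, mul_eq_zero] at this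
  exact mem_J0_of_θ q hd.q_ne (this.resolve_left hd.θ_ne_zero)

end Groth.Agent.WeilNum
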