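import Mathlib
import Groth.Prelude.Def_CAlg
import Groth.Agent.WeilNum.Family
import Groth.Agent.GorLib.CompleteIntersection
import Groth.Agent.SegreOne.Socle
import Groth.Agent.DimTrdeg.Basic

/-!
# The minimal central order: free of rank `2 D`, one-dimensional, Gorenstein
-/

set_option autoImplicit false
universe u

open MvPolynomial

noncomputable section

namespace Groth.Agent.WeilNum

local notation "M2" => MvPolynomial (Fin 2) ℤ

variable {p e : ℕ} {ι : Type} [Fintype ι] {K : ι → Type u} [∀ i, Field (K i)]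
  [∀ i, CharZero (K i)] {π : ∀ i, K i} {D : ℕ} {h : M2}

/-- The order is spanned freely by the `μ n`. -/
lemma order_basis (hf : Family ((p : ℤ) ^ e) π D)
    (hd : Datum ((p : ℤ) ^ e) D (∏ i, minpoly ℤ (π i)) h) :
    Nonempty (Module.Basis (Set.Ico (-(D : ℤ)) D) ℤ (Ev p e π).range) := by
  let L : (Finsupp.supported ℤ ℤ (Set.Ico (-(D : ℤ)) D)) →ₗ[ℤ] (Ev p e π).range :=
    ((Ev p e π).rangeRestrict.toLinearMap.comp Φ).comp (Submodule.subtype _)
  have hmem : ∀ c : ℤ →₀ ℤ, c ∈ Finsupp.supported ℤ ℤ (Set.Ico (-(D : ℤ)) D) ↔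
      ∀ n, c n ≠ 0 → -(D : ℤ) ≤ n ∧ n < D := fun c => by
    simp [Finsupp.mem_supported, Set.subset_def]
  have hbij : Function.Bijective L := by
    refine ⟨(injective_iff_map_eq_zero _).2 fun c hc => ?_, fun x => ?_⟩
    · exact Subtype.ext (Ev_indep hf c.1 ((hmem _).1 c.2) (congrArg Subtype.val hc))
    · obtain ⟨_, g, rfl⟩ := x
      obtain ⟨c, hc, hgc⟩ := hd.exists_reduced g
      refine ⟨⟨c, (hmem _).2 hc⟩, Subtype.ext ?_⟩
      have := span_le_ker hf hd hgc
      rw [RingHom.mem_ker, map_sub, sub_eq_zero] at this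
      exact this.symm
  exact ⟨(Finsupp.basisSingleOne.map (Finsupp.supportedEquivFinsupp _).symm).map
    (LinearEquiv.ofBijective L hbij)⟩

lemma order_props [Nonempty ι] (hf : Family ((p : ℤ) ^ e) π D)
    (hd : Datum ((p : ℤ) ^ e) D (∏ i, minpoly ℤ (π i)) h) :
    Module.Free ℤ (Ev p e π).range ∧ Module.finrank ℤ (Ev p e π).range = 2 * D ∧
      ringKrullDim (Ev p e π).range = 1 ∧ LocCoh.IsGorensteinRing (Ev p e π).range := by
  classical
  obtain ⟨b⟩ := order_basis hf hd
  have hfree : Module.Free ℤ (Ev p e π).range := .of_basis b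
  have hfin : Module.Finite ℤ (Ev p e π).range := .of_basis b
  refine ⟨hfree, ?_, ?_, ?_⟩
  · rw [Module.finrank_eq_card_basis b]
    simp
    omega
  · have hinj : Function.Injective (algebraMap ℤ (Ev p e π).range) := by
      intro a b hab
      have := congrArg (fun x : (Ev p e π).range => (x : ∀ i, K i) (Classical.arbitrary ι)) hab
      simpa using this
    rw [Groth.Agent.DimTrdeg.ringKrullDim_eq_of_isIntegral ℤ _ hinj]
    exact IsPrincipalIdealRing.ringKrullDim_eq_one ℤ Int.not_isField
  · have hJ : Ideal.span (Set.range ![X 0 * X 1 - C ((p : ℤ) ^ e), h]) =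
        Ideal.span {X 0 * X 1 - C ((p : ℤ) ^ e), h} := by
      rw [Matrix.range_cons_cons_empty]
    have hne : Ideal.span (Set.range ![X 0 * X 1 - C ((p : ℤ) ^ e), h]) ≠ ⊤ := by
      rw [hJ, ← ker_Ev hf hd]
      exact RingHom.ker_ne_top _
    have hprime : (J0 ((p : ℤ) ^ e)).IsPrime := by
      have : J0 ((p : ℤ) ^ e) = RingHom.ker (θ ((p : ℤ) ^ e)) :=
        le_antisymm (fun g hg => θ_J0 _ hg) fun g hg => mem_J0_of_θ _ hd.q_ne hg
      rw [this]
      exact RingHom.ker_isPrime _
    have hh0 : h ∉ J0 ((p : ℤ) ^ e) := fun hm => hd.θ_ne_zero (θ_J0 _ hm)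
    have hlt : J0 ((p : ℤ) ^ e) < Ideal.span (Set.range ![X 0 * X 1 - C ((p : ℤ) ^ e), h]) := by
      rw [hJ]
      exact lt_of_le_of_ne hd.J0_le fun he => hh0 (he ▸ Ideal.subset_span (by simp))
    have hheight : (Ideal.span (Set.range ![X 0 * X 1 - C ((p : ℤ) ^ e), h])).height =
        ((2 : ℕ) : ℕ∞) := by
      refine le_antisymm ?_ ?_
      · refine (Ideal.height_le_spanFinrank _ hne).trans ?_
        refine Nat.cast_le.2 ((Submodule.spanFinrank_span_le_ncard_of_finite
          (Set.finite_range _)).trans ?_)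
        rw [Matrix.range_cons_cons_empty]
        exact (Set.ncard_insert_le _ _).trans (by simp)
      · have h1 : (J0 ((p : ℤ) ^ e)).height = 1 := by
          refine Ideal.height_span_singleton_eq_one_of_mem_nonZeroDivisors ?_ ?_
          · refine mem_nonZeroDivisors_of_ne_zero fun h0 => hd.q_ne ?_
            simpa using congrArg (MvPolynomial.constantCoeff) h0
          · exact fun hu => hprime.ne_top (Ideal.span_singleton_eq_top.2 hu)
        have h2 := Ideal.height_strict_mono_of_isPrime hlt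
        rw [h1] at h2
        exact Order.add_one_le_of_lt h2
    let g : Fin 2 → M2 := ![X 0 * X 1 - C ((p : ℤ) ^ e), h]
    let eu : ULift.{u} M2 ≃+* M2 := ULift.ringEquiv
    have : IsRegularRing (ULift.{u} M2) := IsRegularRing.of_ringEquiv eu.symm
    have hmap : Ideal.span (Set.range (eu.symm ∘ g)) = (Ideal.span (Set.range g)).comap eu := by
      rw [← Ideal.map_symm, Ideal.map_span, Set.range_comp]
    have hheight' : (Ideal.span (Set.range (eu.symm ∘ g))).height = ((2 : ℕ) : ℕ∞) := by
      rw [hmap, RingEquiv.height_comap]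
      exact hheight
    have := Groth.Agent.GorLib.isGorensteinRing_quotient_span_range (eu.symm ∘ g) hheight'
    let φ : ULift.{u} M2 →+* (Ev p e π).range :=
      (Ev p e π).rangeRestrict.toRingHom.comp eu.toRingHom
    have hφ : Function.Surjective φ :=
      (Ev p e π).rangeRestrict_surjective.comp eu.surjective
    have hker : RingHom.ker φ = Ideal.span (Set.range (eu.symm ∘ g)) := by
      rw [hmap, hJ, ← ker_Ev hf hd]
      ext x
      simp [φ, Subtype.ext_iff]
    exact Groth.Agent.SegreOne.isGorensteinRing_of_ringEquiv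
      ((Ideal.quotEquivOfEq hker.symm).trans (RingHom.quotientKerEquivOfSurjective hφ))

end Groth.Agent.WeilNum
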