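import Mathlib
import Groth.Agent.GorLib.CompleteIntersection

/-!
A quotient of a regular ring which is locally a complete intersection is Gorenstein.
-/

set_option autoImplicit false
universe u

open LocCoh Groth.Agent.GorLib

namespace Groth.Agent.WeilNum

/-- An ideal contained, up to units at `Q`, in another one. -/
lemma map_le_of_mul {S : Type u} [CommRing S] (Q : Ideal S) [Q.IsPrime] {I J : Ideal S}
    (h : ∀ x ∈ I, ∃ v : S, v ∉ Q ∧ v * x ∈ J) :
    I.map (algebraMap S (Localization.AtPrime Q)) ≤ J.map (algebraMap S (Localization.AtPrime Q)) := by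
  rw [Ideal.map_le_iff_le_comap]
  intro x hx
  obtain ⟨v, hv, hvx⟩ := h x hx
  rw [Ideal.mem_comap]
  refine (Ideal.unit_mul_mem_iff_mem _
    (IsLocalization.map_units (Localization.AtPrime Q) (⟨v, hv⟩ : Q.primeCompl))).1 ?_
  rw [← map_mul]
  exact Ideal.mem_map_of_mem _ hvx

theorem isGorensteinRing_quotient_of_local {S : Type u} [CommRing S] [IsRegularRing S] (I : Ideal S)
    (H : ∀ (Q : Ideal S) [Q.IsPrime], I ≤ Q → ∃ rs : List S, RingTheory.Sequence.IsWeaklyRegular S rs ∧
      (∀ x ∈ I, ∃ v : S, v ∉ Q ∧ v * x ∈ Ideal.ofList rs) ∧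
      (∀ x ∈ Ideal.ofList rs, ∃ v : S, v ∉ Q ∧ v * x ∈ I)) :
    IsGorensteinRing (S ⧸ I) where
  isGorensteinLocalRing_localization P' _ := by
    let P : Ideal S := P'.comap (Ideal.Quotient.mk I)
    have : P.IsPrime := Ideal.IsPrime.comap _
    have hIP : I ≤ P := fun x hx => by
      change Ideal.Quotient.mk I x ∈ P'
      rw [Ideal.Quotient.eq_zero_iff_mem.2 hx]
      exact zero_mem _
    refine gorenstein_atPrime_quotient I P hIP P'
      (Ideal.map_comap_of_surjective _ Ideal.Quotient.mk_surjective _).symm ?_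
    obtain ⟨rs, hreg, h1, h2⟩ := H P hIP
    let B := Localization.AtPrime P
    have := IsRegularRing.isRegularLocalRing_localization (R := S) P
    have hle : Ideal.ofList rs ≤ P := fun x hx => by
      obtain ⟨v, hv, hvx⟩ := h2 x hx
      exact ((inferInstance : P.IsPrime).mem_or_mem (hIP hvx)).resolve_left hv
    let rs' : List B := rs.map (algebraMap S B)
    have heq : Ideal.ofList rs' = I.map (algebraMap S B) := by
      rw [← Ideal.map_ofList]
      exact le_antisymm (map_le_of_mul P h2) (map_le_of_mul P h1)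
    have hreg' : RingTheory.Sequence.IsWeaklyRegular B rs' := hreg.of_flat
    have hmem : ∀ r ∈ rs', r ∈ IsLocalRing.maximalIdeal B := fun r hr => by
      obtain ⟨x, hx, rfl⟩ := List.mem_map.1 hr
      rw [← Localization.AtPrime.map_eq_maximalIdeal]
      exact Ideal.mem_map_of_mem _ (hle (Ideal.subset_span hx))
    have := isLocalRing_quotient (ofList_le hmem)
    have := SemiGor.isGorensteinLocalRing_of_isRegularLocalRing B
    have h := (isGorensteinLocalRing_quotient_ofList_iff _ rs' rfl hreg' hmem).1 inferInstance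
    exact SegreOne.isGorensteinLocalRing_of_ringEquiv (A := B ⧸ Ideal.ofList rs')
      (B := B ⧸ I.map (algebraMap S B)) (Ideal.quotEquivOfEq heq)

end Groth.Agent.WeilNum
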