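import Mathlib

/-!
# The number of `p`-adic unit roots of an integral polynomial
-/

set_option autoImplicit false

noncomputable section

namespace Groth.Agent.WeilNum

variable (p : ℕ) [Fact p.Prime]

open Classical in
/-- If the coefficients below the middle one are divisible by `p`, at most half of the roots are
units, and exactly half iff the middle coefficient is prime to `p`. -/
theorem unit_roots (P : Polynomial ℤ) (hP : P.Monic) (D : ℕ) (hD : P.natDegree = 2 * D)
    (hdiv : ∀ k < D, (p : ℤ) ∣ P.coeff k) :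
    Multiset.card ((P.aroots (PadicAlgCl p)).filter fun z => ‖z‖ = 1) ≤ D ∧
      (Multiset.card ((P.aroots (PadicAlgCl p)).filter fun z => ‖z‖ = 1) = D ↔
        ¬ (p : ℤ) ∣ P.coeff D) := by
  classical
  set Ω := PadicAlgCl p
  let O : ValuationSubring Ω := (NormedField.valuation (K := Ω)).valuationSubring
  have hmemO : ∀ z : Ω, z ∈ O ↔ ‖z‖ ≤ 1 := fun z => by
    rw [Valuation.mem_valuationSubring_iff, NormedField.valuation_apply, ← NNReal.coe_le_coe]
    simp
  have hunit : ∀ y : O, IsUnit y ↔ ‖(y : Ω)‖ = 1 := by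
    intro y
    constructor
    · intro hy
      obtain ⟨x, hx⟩ := hy.exists_right_inv
      have h := congrArg (fun w : O => ‖(w : Ω)‖) hx
      simp only [MulMemClass.coe_mul, OneMemClass.coe_one, norm_mul, norm_one] at h
      exact le_antisymm ((hmemO _).1 y.2) (h ▸ mul_le_of_le_one_right (norm_nonneg _) ((hmemO _).1 x.2))
    · intro hy
      have h0 : (y : Ω) ≠ 0 := fun h => by simp [h] at hy
      refine IsUnit.of_mul_eq_one ⟨(y : Ω)⁻¹, (hmemO _).2 (by rw [norm_inv, hy, inv_one])⟩ ?_
      exact Subtype.ext (mul_inv_cancel₀ h0)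
  have hres : ∀ y : O, IsLocalRing.residue O y = 0 ↔ ¬ ‖(y : Ω)‖ = 1 := fun y => by
    rw [IsLocalRing.residue_eq_zero_iff, IsLocalRing.mem_maximalIdeal, mem_nonunits_iff, hunit]
  let ρ : ℤ →+* IsLocalRing.ResidueField O := (IsLocalRing.residue O).comp (Int.castRingHom O)
  have hρp : ρ (p : ℤ) = 0 := by
    refine (hres _).2 ?_
    rw [eq_intCast, Int.cast_natCast, show ((p : O) : Ω) = (p : Ω) from map_natCast O.subtype p,
      ← map_natCast (algebraMap ℚ_[p] Ω), norm_algebraMap', Padic.norm_p]
    exact fun h => (Fact.out : p.Prime).one_lt.ne' (by exact_mod_cast (inv_eq_one.1 h))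
  have hρ : ∀ k : ℤ, ρ k = 0 ↔ (p : ℤ) ∣ k := by
    refine fun k => ⟨fun hk => ?_, fun ⟨c, hc⟩ => by rw [hc, map_mul, hρp, zero_mul]⟩
    by_contra hndvd
    obtain ⟨u, v, huv⟩ :=
      (Nat.prime_iff_prime_int.1 (Fact.out : p.Prime)).coprime_iff_not_dvd.2 hndvd
    have := congrArg ρ huv
    rw [map_add, map_mul, map_mul, hρp, hk, mul_zero, mul_zero, add_zero, map_one] at this
    exact zero_ne_one this
  set R := P.aroots Ω with hR
  have hmem : ∀ z ∈ R, z ∈ O := by
    intro z hz
    have h0 : IsIntegral ℤ z := ⟨P, hP, (Polynomial.mem_aroots.1 hz).2⟩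
    obtain ⟨y, hy⟩ := IsIntegrallyClosed.isIntegral_iff.1 (h0.tower_top (A := O))
    exact hy ▸ y.2
  let L : Multiset O := R.pmap (fun z hz => (⟨z, hz⟩ : O)) hmem
  have hL : L.map O.subtype = R := by
    simp [L, Multiset.map_pmap, Multiset.pmap_eq_map]
  have hfac : P.map (Int.castRingHom O) = (L.map fun y => Polynomial.X - Polynomial.C y).prod := by
    refine Polynomial.map_injective O.subtype Subtype.val_injective ?_
    rw [Polynomial.map_map, Polynomial.map_multiset_prod, Multiset.map_map,
      RingHom.ext_int (O.subtype.comp (Int.castRingHom O)) (algebraMap ℤ Ω)]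
    have hs := (IsAlgClosed.splits (P.map (algebraMap ℤ Ω))).eq_prod_roots_of_monic (hP.map _)
    have hf : (Polynomial.map O.subtype ∘ fun y : O => Polynomial.X - Polynomial.C y) =
        (fun z : Ω => Polynomial.X - Polynomial.C z) ∘ O.subtype := by
      funext y; simp
    rw [hf, ← Multiset.map_map, hL]
    exact hs
  have hcard : Multiset.card R = 2 * D := by
    rw [hR, Polynomial.aroots_def, ← (IsAlgClosed.splits _).natDegree_eq_card_roots,
      hP.natDegree_map, hD]
  set Q := P.map ρ with hQ
  have hQroots : Q.roots = L.map (IsLocalRing.residue O) := by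
    rw [hQ, show ρ = (IsLocalRing.residue O).comp (Int.castRingHom O) from rfl,
      ← Polynomial.map_map, hfac, Polynomial.map_multiset_prod, Multiset.map_map]
    have hf : (Polynomial.map (IsLocalRing.residue O) ∘ fun y : O => Polynomial.X - Polynomial.C y) =
        (fun z => Polynomial.X - Polynomial.C z) ∘ IsLocalRing.residue O := by
      funext y; simp
    rw [hf, ← Multiset.map_map, Polynomial.roots_multiset_prod_X_sub_C]
  have hQ0 : Q ≠ 0 := (hP.map ρ).ne_zero
  have ht : Multiset.card (R.filter fun z => ‖z‖ = 1) + Q.natTrailingDegree = 2 * D := by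
    rw [← Polynomial.rootMultiplicity_eq_natTrailingDegree', ← Polynomial.count_roots, hQroots,
      Multiset.count_map, ← hcard]
    conv_lhs => rw [← hL, Multiset.filter_map, Multiset.card_map]
    have e : L.filter (fun a => 0 = IsLocalRing.residue O a) =
        L.filter (fun a => ¬ ((fun z : Ω => ‖z‖ = 1) ∘ O.subtype) a) :=
      Multiset.filter_congr fun y _ => by rw [eq_comm, hres]; rfl
    rw [e, ← Multiset.card_add, Multiset.filter_add_not, ← hL, Multiset.card_map]
  have hge : D ≤ Q.natTrailingDegree := Polynomial.le_natTrailingDegree hQ0 fun k hk => by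
    rw [hQ, Polynomial.coeff_map, hρ]
    exact hdiv k hk
  suffices key : ∀ c, c + Q.natTrailingDegree = 2 * D → c ≤ D ∧ (c = D ↔ ¬ (p : ℤ) ∣ P.coeff D) by
    exact key _ ht
  intro c hc
  refine ⟨by omega, ⟨fun h hdvd => ?_, fun h => ?_⟩⟩
  · have ht' : Q.natTrailingDegree = D := by omega
    have := Polynomial.trailingCoeff_nonzero_iff_nonzero.2 hQ0
    rw [Polynomial.trailingCoeff, ht', hQ, Polynomial.coeff_map] at this
    exact this ((hρ _).2 hdvd)
  · have : Q.natTrailingDegree ≤ D := Polynomial.natTrailingDegree_le_of_ne_zero (by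
      rw [hQ, Polynomial.coeff_map]; exact fun h0 => h ((hρ _).1 h0))
    omega

end Groth.Agent.WeilNum
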