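import Mathlib

/-!
# Lifting invertible modules along a surjection of reduced rings

If `π : R →+* S` is surjective, `R` is reduced and `a` kills the kernel, and `S / (π a) ^ 2` has
finitely many maximal ideals, then every invertible `S`-module comes from an invertible `R`-module:
such a module is cut out by a trace one rank one idempotent matrix, congruent to a diagonal one
modulo `π a`, and such a matrix lifts.
-/

set_option autoImplicit false
universe u

open TensorProduct

noncomputable section

namespace Groth.Agent.WeilNum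

section

variable {S : Type u} [CommRing S] {M : Type u} [AddCommGroup M] [Module S M]
  [Module.Invertible S M]

lemma contract_surjective : ∃ (n : ℕ) (g : Fin n → Module.Dual S M) (y : Fin n → M),
    ∑ i, g i (y i) = 1 := by
  classical
  obtain ⟨T, hT⟩ := TensorProduct.exists_finset ((Module.Invertible.linearEquiv S M).symm 1)
  refine ⟨T.card, fun i => (T.equivFin.symm i).1.1, fun i => (T.equivFin.symm i).1.2, ?_⟩
  rw [Equiv.sum_comp T.equivFin.symm (fun x : T => (x : Module.Dual S M × M).1 x.1.2)]
  have h := congrArg (Module.Invertible.linearEquiv S M) hT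
  rw [LinearEquiv.apply_symm_apply, map_sum] at h
  rw [h, Finset.sum_coe_sort T (fun x : Module.Dual S M × M => x.1 x.2)]
  exact Finset.sum_congr rfl fun x _ => rfl

/-- The interchange rule in an invertible module. -/
lemma dual_swap (f : Module.Dual S M) (x y : M) : f x • y = f y • x := by
  have h : x ⊗ₜ[S] y = y ⊗ₜ[S] x := Module.Invertible.tmul_comm
  simpa using congrArg (fun t => TensorProduct.lid S M (f.rTensor M t)) h

lemma exists_mul_mem (b : S) [Finite {m : Ideal S // m.IsMaximal ∧ b ∈ m}] :
    ∃ (f : Module.Dual S M) (x : M) (r : S), f x + b * r = 1 := by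
  classical
  obtain ⟨n, g, y, hgy⟩ := contract_surjective (S := S) (M := M)
  let ι := {m : Ideal S // m.IsMaximal ∧ b ∈ m}
  have : Fintype ι := Fintype.ofFinite ι
  have h1 : ∀ m : ι, ∃ i, g i (y i) ∉ m.1 := by
    intro m
    by_contra hcon
    push Not at hcon
    exact m.2.1.ne_top ((Ideal.eq_top_iff_one _).2 (hgy ▸ Ideal.sum_mem _ fun i _ => hcon i))
  choose c hc using h1
  have hcop : Pairwise fun m m' : ι => IsCoprime m.1 m'.1 := fun m m' hne =>
    Ideal.isCoprime_iff_sup_eq.2 (m.2.1.coprime_of_ne m'.2.1 fun h => hne (Subtype.ext h))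
  have h2 : ∀ m : ι, ∃ e : S, e - 1 ∈ m.1 ∧ ∀ m' : ι, m' ≠ m → e ∈ m'.1 := by
    intro m
    have := Ideal.quotientInfToPiQuotient_surj hcop (Pi.single m 1)
    obtain ⟨e, he⟩ := this
    obtain ⟨e, rfl⟩ := Ideal.Quotient.mk_surjective e
    refine ⟨e, ?_, fun m' hm' => ?_⟩
    · have := congrFun he m
      rw [Ideal.quotientInfToPiQuotient_mk', Pi.single_eq_same] at this
      exact (Ideal.Quotient.mk_eq_one_iff_sub_mem _).1 this
    · have := congrFun he m'
      rw [Ideal.quotientInfToPiQuotient_mk', Pi.single_eq_of_ne hm'] at this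
      exact Ideal.Quotient.eq_zero_iff_mem.1 this
  choose e he1 he0 using h2
  let f : Module.Dual S M := ∑ m : ι, e m • g (c m)
  let x : M := ∑ m : ι, e m • y (c m)
  have hfx : ∀ m : ι, f x - g (c m) (y (c m)) ∈ m.1 := by
    intro m
    have := m.2.1
    rw [← Ideal.Quotient.mk_eq_mk_iff_sub_mem]
    simp only [f, x, LinearMap.sum_apply, LinearMap.smul_apply, map_sum, map_smul, smul_eq_mul,
      map_mul]
    have hone : Ideal.Quotient.mk m.1 (e m) = 1 := (Ideal.Quotient.mk_eq_one_iff_sub_mem _).2 (he1 m)
    have hzero : ∀ m' : ι, m' ≠ m → Ideal.Quotient.mk m.1 (e m') = 0 := fun m' hm' =>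
      Ideal.Quotient.eq_zero_iff_mem.2 (he0 m' m (Ne.symm hm'))
    rw [Finset.sum_eq_single m, Finset.sum_eq_single m, hone, one_mul, one_mul]
    · intro m' _ hm'; rw [hzero m' hm', zero_mul]
    · simp
    · intro m' _ hm'; simp [hzero m' hm']
    · simp
  have htop : Ideal.span {f x, b} = ⊤ := by
    by_contra hne
    obtain ⟨m, hm, hle⟩ := Ideal.exists_le_maximal _ hne
    let mi : ι := ⟨m, hm, hle (Ideal.subset_span (by simp))⟩
    exact hc mi (by simpa using m.sub_mem (hle (Ideal.subset_span (Set.mem_insert (f x) {b}))) (hfx mi))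
  obtain ⟨u, v, huv⟩ := Ideal.mem_span_pair.1 ((Ideal.eq_top_iff_one _).1 htop)
  exact ⟨u • f, x, v, by rw [LinearMap.smul_apply, smul_eq_mul, ← huv]; ring⟩

end

section

variable {R : Type u} [CommRing R] {κ : Type} [Fintype κ] (E : κ → κ → R)

/-- The column space of a trace one matrix with vanishing minors is invertible. -/
lemma invertible_span (htr : ∑ i, E i i = 1) (hmin : ∀ i j k l, E i j * E k l = E i l * E k j) :
    Module.Invertible R (Submodule.span R (Set.range fun i => fun k => E k i)) := by
  classical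
  set N := Submodule.span R (Set.range fun i => fun k => E k i) with hN
  set N' := Submodule.span R (Set.range fun i => E i) with hN'
  have hidem : ∀ i l, ∑ j, E i j * E j l = E i l := fun i l => by
    simp_rw [fun j => hmin i j j l, ← Finset.mul_sum, htr, mul_one]
  let col : κ → N := fun i => ⟨fun k => E k i, Submodule.subset_span ⟨i, rfl⟩⟩
  let row : κ → N' := fun i => ⟨E i, Submodule.subset_span ⟨i, rfl⟩⟩
  let φ : N ⊗[R] N' →ₗ[R] R := TensorProduct.lift
    ((LinearMap.mk₂ R (fun u v : κ → R => ∑ k, u k * v k)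
      (fun u u' v => by simp [add_mul, Finset.sum_add_distrib])
      (fun c u v => by simp [Finset.mul_sum, mul_assoc])
      (fun u v v' => by simp [mul_add, Finset.sum_add_distrib])
      (fun c u v => by simp [Finset.mul_sum, mul_left_comm])).compl₁₂ N.subtype N'.subtype)
  have hφ : ∀ (u : N) (v : N'), φ (u ⊗ₜ v) = ∑ k, (u : κ → R) k * (v : κ → R) k := fun u v => rfl
  let ψ : R →ₗ[R] N ⊗[R] N' := LinearMap.toSpanSingleton R _ (∑ i, col i ⊗ₜ row i)
  have hrow : ∀ l, ∑ i, E l i • row i = row l := fun l => by
    refine Subtype.ext (funext fun k => ?_)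
    simp [row, Finset.sum_apply, hidem]
  have hgen : ∀ j l, ψ (φ (col j ⊗ₜ row l)) = col j ⊗ₜ row l := fun j l => by
    rw [hφ]
    have hc : ∑ k, E k j * E l k = E l j := by
      simp_rw [fun k => hmin k j l k, ← Finset.sum_mul, htr, one_mul]
    change (∑ k, E k j * E l k) • ∑ i, col i ⊗ₜ[R] row i = _
    have hsw : ∀ i, E l j • col i = E l i • col j := fun i => by
      refine Subtype.ext (funext fun k => ?_)
      simp [col, hmin l j k i]
    simp_rw [hc, Finset.smul_sum, smul_tmul', hsw, smul_tmul, ← tmul_sum, hrow]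
  have h2 : ψ ∘ₗ φ = LinearMap.id := by
    refine TensorProduct.ext' fun u v => ?_
    obtain ⟨u, hu⟩ := u
    induction hu using Submodule.span_induction with
    | mem x hx =>
      obtain ⟨j, rfl⟩ := hx
      obtain ⟨v, hv⟩ := v
      induction hv using Submodule.span_induction with
      | mem y hy =>
        obtain ⟨l, rfl⟩ := hy
        exact hgen j l
      | zero =>
        have : (⟨0, zero_mem N'⟩ : N') = 0 := rfl
        simp [this]
      | add y z hy hz ihy ihz =>
        have e : (⟨y + z, add_mem hy hz⟩ : N') = ⟨y, hy⟩ + ⟨z, hz⟩ := rfl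
        simp only [e, tmul_add, map_add]
        exact congrArg₂ (· + ·) ihy ihz
      | smul c y hy ih =>
        have e : (⟨c • y, N'.smul_mem c hy⟩ : N') = c • ⟨y, hy⟩ := rfl
        simp only [e, tmul_smul, map_smul]
        exact congrArg (c • ·) ih
    | zero =>
      have : (⟨0, zero_mem N⟩ : N) = 0 := rfl
      simp [this]
    | add y z hy hz ihy ihz =>
      have e : (⟨y + z, add_mem hy hz⟩ : N) = ⟨y, hy⟩ + ⟨z, hz⟩ := rfl
      simp only [e, add_tmul, map_add]
      exact congrArg₂ (· + ·) ihy ihz
    | smul c y hy ih =>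
      have e : (⟨c • y, N.smul_mem c hy⟩ : N) = c • ⟨y, hy⟩ := rfl
      simp only [e, ← smul_tmul', map_smul]
      exact congrArg (c • ·) ih
  have h1 : φ ∘ₗ ψ = LinearMap.id := by
    refine LinearMap.ext_ring ?_
    change φ ((1 : R) • ∑ i, col i ⊗ₜ[R] row i) = 1
    simp only [one_smul, map_sum, hφ]
    change ∑ i, ∑ k, E k i * E i k = 1
    rw [Finset.sum_congr rfl fun i _ => Finset.sum_congr rfl fun k _ => hmin k i i k]
    simp_rw [← Finset.sum_mul, htr, one_mul]
    exact htr
  exact Module.Invertible.left (LinearEquiv.ofLinear φ ψ h1 h2)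

end

section

variable {R S : Type u} [CommRing R] [CommRing S] [IsReduced R]

theorem pic_mapRingHom_surjective (π : R →+* S) (hπ : Function.Surjective π) (a : R)
    (ha : ∀ x ∈ RingHom.ker π, a * x = 0)
    [Finite {m : Ideal S // m.IsMaximal ∧ π a ^ 2 ∈ m}] :
    Function.Surjective (CommRing.Pic.mapRingHom π) := by
  classical
  intro Q
  let := π.toAlgebra
  obtain ⟨f, x, r, hfx⟩ := exists_mul_mem (S := S) (M := Q) (π a ^ 2)
  obtain ⟨n, g, y, hgy⟩ := contract_surjective (S := S) (M := Q)
  let F : Option (Fin n) → Module.Dual S Q := fun o => o.elim f fun i => π a • g i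
  let X : Option (Fin n) → Q := fun o => o.elim x fun i => (π a * r) • y i
  have hsum : ∑ o, F o (X o) = 1 := by
    have hh : ∀ i, (π a • g i) ((π a * r) • y i) = π a ^ 2 * r * g i (y i) := fun i => by
      simp; ring
    simp only [Fintype.sum_option, F, X, Option.elim, hh, ← Finset.mul_sum, hgy, mul_one]
    exact hfx
  let D : Option (Fin n) → Option (Fin n) → R := fun i j => if i = none ∧ j = none then 1 else 0
  have hco : ∀ i j, ∃ s : S, F i (X j) = π (D i j) + π a * s := by
    rintro (_ | i) (_ | j)
    · exact ⟨-(π a * r), by simp [F, X, D]; linear_combination hfx⟩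
    · exact ⟨r * f (y j), by simp [F, X, D]; ring⟩
    · exact ⟨g i x, by simp [F, X, D]⟩
    · exact ⟨π a * r * g i (y j), by simp [F, X, D]; ring⟩
  choose s hs using hco
  choose s' hs' using fun i j => hπ (s i j)
  let E : Option (Fin n) → Option (Fin n) → R := fun i j => D i j + a * s' i j
  have hE : ∀ i j, π (E i j) = F i (X j) := fun i j => by simp [E, hs, hs']
  have hED : ∀ i j, Ideal.Quotient.mk (Ideal.span {a}) (E i j) =
      Ideal.Quotient.mk (Ideal.span {a}) (D i j) := fun i j => by
    rw [Ideal.Quotient.mk_eq_mk_iff_sub_mem, Ideal.mem_span_singleton]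
    exact ⟨s' i j, by simp [E]⟩
  have key : ∀ z : R, Ideal.Quotient.mk (Ideal.span {a}) z = 0 → π z = 0 → z = 0 := by
    intro z h1 h2
    obtain ⟨t, rfl⟩ := Ideal.mem_span_singleton.1 (Ideal.Quotient.eq_zero_iff_mem.1 h1)
    refine IsNilpotent.eq_zero ⟨2, ?_⟩
    linear_combination t * ha _ h2
  have htr : ∑ i, E i i = 1 := by
    refine sub_eq_zero.1 (key _ ?_ ?_)
    · simp [hED, D, Fintype.sum_option]
    · simp only [map_sub, map_sum, map_one, hE, hsum, sub_self]
  have hmin : ∀ i j k l, E i j * E k l = E i l * E k j := by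
    intro i j k l
    refine sub_eq_zero.1 (key _ ?_ ?_)
    · simp only [map_sub, map_mul, hED, D]
      rcases i with _ | i <;> rcases j with _ | j <;> rcases k with _ | k <;>
        rcases l with _ | l <;> simp
    · simp only [map_sub, map_mul, hE]
      have := congrArg (F k) (dual_swap (F i) (X j) (X l))
      simp only [map_smul, smul_eq_mul] at this
      linear_combination this
  set N := Submodule.span R (Set.range fun i => fun k => E k i) with hN
  have hNinv : Module.Invertible R N := invertible_span E htr hmin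
  let : Module R Q := Module.compHom Q π
  have : IsScalarTower R S Q := ⟨fun c s q => by
    change (c • s) • q = π c • s • q
    rw [Algebra.smul_def, mul_smul, RingHom.algebraMap_toAlgebra]⟩
  let β : N →ₗ[R] Q :=
    { toFun := fun u => ∑ j, π ((u : Option (Fin n) → R) j) • X j
      map_add' := fun u v => by simp [add_smul, Finset.sum_add_distrib]
      map_smul' := fun c u => by
        simp [Finset.smul_sum, mul_smul, ← algebraMap_smul S c, RingHom.algebraMap_toAlgebra] }
  let Ψ : S ⊗[R] N →ₗ[S] Q := β.liftBaseChange S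
  have hX : ∀ i, X i ∈ LinearMap.range Ψ := fun i => by
    refine ⟨1 ⊗ₜ ⟨fun k => E k i, Submodule.subset_span ⟨i, rfl⟩⟩, ?_⟩
    simp only [Ψ, LinearMap.liftBaseChange_tmul, one_smul]
    change ∑ j, π (E j i) • X j = X i
    simp_rw [hE, fun j => dual_swap (F j) (X i) (X j), ← Finset.sum_smul, hsum, one_smul]
  have hΨ : Function.Surjective Ψ := by
    intro m
    have : m ∈ LinearMap.range Ψ := by
      have e : m = ∑ j, F j m • X j := by
        simp_rw [fun j => dual_swap (F j) m (X j), ← Finset.sum_smul, hsum, one_smul]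
      rw [e]
      exact Submodule.sum_mem _ fun j _ => Submodule.smul_mem _ _ (hX j)
    exact this
  refine ⟨CommRing.Pic.mk R N, ?_⟩
  rw [CommRing.Pic.mapRingHom, CommRing.Pic.mapAlgebra_apply]
  exact CommRing.Pic.mk_eq_iff.2 ⟨(LinearEquiv.baseChange R S _ _
    (CommRing.Pic.mk.linearEquiv (R := R) (M := N))).trans
    (LinearEquiv.ofBijective Ψ (Module.Invertible.bijective_of_surjective hΨ))⟩

end

end Groth.Agent.WeilNum
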