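import Mathlib
import Groth.Agent.WeilNum.Family
import Groth.Agent.WeilNum.PicLift

/-!
# The Picard groups of minimal central orders of a family and of a subfamily
-/

set_option autoImplicit false
universe u

open MvPolynomial

noncomputable section

namespace Groth.Agent.WeilNum

local notation "M2" => MvPolynomial (Fin 2) ℤ

variable {p e : ℕ}

/-- The generators of the order are killed by one monic integral polynomial. -/
lemma exists_monic_annihilating {ι : Type} [Fintype ι] {K : ι → Type u} [∀ i, Field (K i)]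
    [∀ i, CharZero (K i)] {π : ∀ i, K i} (hp : 0 < p) (hint : ∀ i, IsIntegral ℤ (π i))
    (hweil : ∀ i, ∀ z ∈ (minpoly ℤ (π i)).aroots ℂ, ‖z‖ = Real.sqrt ((p : ℝ) ^ e))
    (hne : ∀ i, π i ≠ 0) (x : Fin 2) :
    IsIntegral ℤ (Ev p e π (X x)) := by
  classical
  set P := ∏ i, minpoly ℤ (π i) with hP
  obtain ⟨D, hD⟩ : ∃ D, D = ∑ i, (minpoly ℤ (π i)).natDegree := ⟨_, rfl⟩
  set Q := P ^ 2 with hQ
  have hQm : Q.Monic := (monic_prod hint).pow 2
  have hQd : Q.natDegree = 2 * D := by
    rw [hQ, Polynomial.natDegree_pow, hP,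
      Polynomial.natDegree_prod_of_monic _ _ fun i _ => minpoly.monic (hint i), ← hD]
  have hroots : ∀ z : ℂ, Polynomial.aeval z Q = 0 → ‖z‖ = Real.sqrt ((p ^ e : ℕ) : ℝ) :=
    fun z hz => norm_root_prod hint hweil z (by rw [hQ, map_pow] at hz; exact pow_eq_zero_iff two_ne_zero |>.1 hz)
  obtain ⟨ε, hε, -, hfe⟩ := functional_equation Q hQm D hQd (p ^ e) (pow_pos hp _) hroots
  have hεε : ε * ε = 1 := by rcases Int.isUnit_iff.1 hε with h | h <;> simp [h]
  have hsym : ∀ k ≤ 2 * D, Q.coeff k * ((p ^ e : ℕ) : ℤ) ^ k =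
      ε * ((p ^ e : ℕ) : ℤ) ^ D * Q.coeff (2 * D - k) := by
    intro k hk
    set q : ℤ := ((p ^ e : ℕ) : ℤ)
    rcases le_or_gt k D with h | h
    · have := hfe (D - k) (Nat.sub_le _ _)
      rw [show D - (D - k) = k by omega, show D + (D - k) = 2 * D - k by omega] at this
      rw [this, show q ^ D = q ^ (D - k) * q ^ k by rw [← pow_add]; congr 1; omega]
      ring
    · have := hfe (k - D) (by omega)
      rw [show D - (k - D) = 2 * D - k by omega, show D + (k - D) = k by omega] at this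
      rw [this, show q ^ k = q ^ (k - D) * q ^ D by rw [← pow_add]; congr 1; omega]
      linear_combination (-(q ^ (k - D)) * q ^ D * Q.coeff k) * hεε
  refine ⟨Q, hQm, ?_⟩
  rw [← Polynomial.aeval_def]
  funext i
  rw [show Polynomial.aeval (Ev p e π (X x)) Q i = Polynomial.aeval (Ev p e π (X x) i) Q from
    (Polynomial.aeval_algHom_apply (Pi.evalAlgHom ℤ K i) _ Q).symm, Pi.zero_apply]
  have hπQ : Polynomial.aeval (π i) Q = 0 := by
    rw [hQ, map_pow, hP, map_prod, Finset.prod_eq_zero (Finset.mem_univ i) (minpoly.aeval ℤ (π i))]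
    simp
  fin_cases x
  · simpa [Ev] using hπQ
  · suffices Polynomial.aeval (((p : K i) ^ e) / π i) Q = 0 by simpa [Ev] using this
    set c : K i := (p : K i) ^ e with hc
    have h1 : π i ^ (2 * D) * Polynomial.aeval (c / π i) Q =
        (ε : K i) * c ^ D * Polynomial.aeval (π i) Q := by
      rw [Polynomial.aeval_eq_sum_range, Polynomial.aeval_eq_sum_range, hQd, Finset.mul_sum,
        Finset.mul_sum]
      rw [← Finset.sum_range_reflect (fun k => (ε : K i) * c ^ D * (Q.coeff k • π i ^ k)) (2 * D + 1)]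
      refine Finset.sum_congr rfl fun k hk => ?_
      rw [Finset.mem_range] at hk
      rw [show 2 * D + 1 - 1 - k = 2 * D - k by omega]
      have h2 : (Q.coeff k : K i) * c ^ k = (ε : K i) * c ^ D * Q.coeff (2 * D - k) := by
        have := congrArg (fun z : ℤ => (z : K i)) (hsym k (by omega))
        push_cast at this
        exact this
      rw [zsmul_eq_mul, zsmul_eq_mul, div_pow]
      calc π i ^ (2 * D) * ((Q.coeff k : K i) * (c ^ k / π i ^ k))
          = π i ^ (2 * D - k) * ((Q.coeff k : K i) * c ^ k) := by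
            rw [show π i ^ (2 * D) = π i ^ (2 * D - k) * π i ^ k by
              rw [← pow_add]; congr 1; omega]
            field_simp [hne i]
        _ = _ := by rw [h2]; ring
    rw [hπQ, mul_zero] at h1
    exact (mul_eq_zero.1 h1).resolve_left (pow_ne_zero _ (hne i))

/-- The quotient of an order by a non-zero-divisor has finitely many maximal ideals. -/
lemma finite_maximal_of_isRegular (S : Type u) [CommRing S] [Module.Finite ℤ S] (b : S)
    (hb : IsSMulRegular S b) : Finite {m : Ideal S // m.IsMaximal ∧ b ∈ m} := by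
  obtain ⟨g, hg, hgb⟩ := Algebra.IsIntegral.isIntegral (R := ℤ) b
  rw [← Polynomial.aeval_def] at hgb
  obtain ⟨g', hgg', hnd⟩ := Polynomial.exists_eq_pow_rootMultiplicity_mul_and_not_dvd g hg.ne_zero 0
  rw [map_zero, sub_zero] at hgg' hnd
  have hc : g'.coeff 0 ≠ 0 := fun h => hnd (Polynomial.X_dvd_iff.2 h)
  have h1 : Polynomial.aeval b g' = 0 := by
    rw [hgg', map_mul, map_pow, Polynomial.aeval_X] at hgb
    exact (hb.pow _).right_eq_zero_of_smul (by rwa [smul_eq_mul])
  have hmem : ∀ z : S, (g'.coeff 0) • z ∈ Ideal.span {b} := by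
    intro z
    rw [Ideal.mem_span_singleton, zsmul_eq_mul]
    refine Dvd.dvd.mul_right ?_ z
    rw [← Polynomial.divX_mul_X_add g', map_add, map_mul, Polynomial.aeval_X,
      Polynomial.aeval_C, add_eq_zero_iff_eq_neg', eq_intCast] at h1
    exact ⟨-Polynomial.aeval b g'.divX, by rw [h1]; ring⟩
  have : Finite (S ⧸ Ideal.span {b}) := by
    have hfin : Module.Finite ℤ (S ⧸ Ideal.span {b}) :=
      Module.Finite.of_surjective (Ideal.Quotient.mkₐ ℤ (Ideal.span {b})).toLinearMap
        Ideal.Quotient.mk_surjective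
    refine Module.finite_of_fg_torsion _ fun z => ?_
    obtain ⟨z, rfl⟩ := Ideal.Quotient.mk_surjective z
    refine ⟨⟨g'.coeff 0, mem_nonZeroDivisors_of_ne_zero hc⟩, ?_⟩
    change g'.coeff 0 • Ideal.Quotient.mk (Ideal.span {b}) z = 0
    rw [← map_zsmul]
    exact Ideal.Quotient.eq_zero_iff_mem.2 (hmem z)
  refine Finite.of_injective (fun m => m.1.map (Ideal.Quotient.mk (Ideal.span {b}))) ?_
  intro m m' h
  have e : ∀ k : {m : Ideal S // m.IsMaximal ∧ b ∈ m},
      (k.1.map (Ideal.Quotient.mk (Ideal.span {b}))).comap (Ideal.Quotient.mk _) = k.1 := fun k => by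
    rw [Ideal.comap_map_of_surjective _ Ideal.Quotient.mk_surjective, ← RingHom.ker_eq_comap_bot,
      Ideal.mk_ker, sup_eq_left, Ideal.span_le, Set.singleton_subset_iff]
    exact k.2.2
  exact Subtype.ext ((e m).symm.trans ((congrArg (Ideal.comap _) h).trans (e m')))

theorem pic_surjective (hp : 0 < p) (J J' : Type) [Fintype J] [Fintype J'] (emb : J' → J)
    (hemb : Function.Injective emb) (K : J → Type u) [∀ j, Field (K j)] [∀ j, CharZero (K j)]
    (ϖ : ∀ j, K j) (hint : ∀ j, IsIntegral ℤ (ϖ j))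
    (hweil : ∀ j, ∀ z ∈ (minpoly ℤ (ϖ j)).aroots ℂ, ‖z‖ = Real.sqrt ((p : ℝ) ^ e))
    (hinj : ∀ i j, minpoly ℤ (ϖ i) = minpoly ℤ (ϖ j) → i = j)
    (hle : RingHom.ker (Ev p e ϖ) ≤ RingHom.ker (Ev p e fun j' => ϖ (emb j'))) :
    Function.Surjective (CommRing.Pic.mapRingHom (Ideal.Quotient.factor hle)) := by
  classical
  have hne : ∀ j, ϖ j ≠ 0 := fun j h0 => by
    have hdvd : minpoly ℤ (ϖ j) ∣ Polynomial.X :=
      minpoly.isIntegrallyClosed_dvd (hint j) (by rw [Polynomial.aeval_X, h0])
    have he := Polynomial.eq_of_monic_of_associated (minpoly.monic (hint j)) Polynomial.monic_X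
      ((minpoly.irreducible (hint j)).associated_of_dvd Polynomial.irreducible_X hdvd)
    have := hweil j 0 (by rw [he]; simp)
    rw [norm_zero] at this
    exact absurd this.symm (Real.sqrt_ne_zero'.2 (pow_pos (Nat.cast_pos.2 hp) _))
  set Iv := RingHom.ker (Ev p e fun j' => ϖ (emb j')) with hIv
  set P : Polynomial ℤ := ∏ j ∈ Finset.univ.filter (fun j => j ∉ Set.range emb), minpoly ℤ (ϖ j)
  set g : M2 := Polynomial.aeval (X 0) P with hg
  have hgj : ∀ j, Ev p e ϖ g j = Polynomial.aeval (ϖ j) P := fun j => by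
    rw [hg, ← Polynomial.aeval_algHom_apply]
    refine (Polynomial.aeval_algHom_apply (Pi.evalAlgHom ℤ K j) _ P).symm.trans ?_
    simp [Ev]
  have hEv : ∀ (x : M2) j', Ev p e (fun j' => ϖ (emb j')) x j' = Ev p e ϖ x (emb j') := fun x j' => by
    refine DFunLike.congr_fun (MvPolynomial.algHom_ext (f := (Pi.evalAlgHom ℤ _ j').comp
      (Ev p e (fun j' => ϖ (emb j')))) (g := (Pi.evalAlgHom ℤ _ (emb j')).comp (Ev p e ϖ)) ?_) x
    intro i
    fin_cases i <;> simp [Ev]
  have : IsReduced (M2 ⧸ RingHom.ker (Ev p e ϖ)) :=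
    (RingHom.ker_isRadical_iff_reduced_of_surjective
      (f := Ideal.Quotient.mk (RingHom.ker (Ev p e ϖ))) Ideal.Quotient.mk_surjective).1 (by
      rw [Ideal.mk_ker]
      intro x hx
      obtain ⟨n, hn⟩ := hx
      rw [RingHom.mem_ker, map_pow] at hn
      exact RingHom.mem_ker.2 (IsReduced.eq_zero _ ⟨n, hn⟩))
  let S := M2 ⧸ Iv
  let φ : S →ₐ[ℤ] ((j' : J') → K (emb j')) :=
    Ideal.Quotient.liftₐ Iv (Ev p e fun j' => ϖ (emb j')) fun x hx => hx
  have hφ : Function.Injective φ := Ideal.kerLiftAlg_injective _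
  have hint' : ∀ x : Fin 2, IsIntegral ℤ (Ideal.Quotient.mkₐ ℤ Iv (X x)) := fun x => by
    rw [← isIntegral_algHom_iff φ hφ]
    exact exists_monic_annihilating hp (fun j' => hint (emb j')) (fun j' => hweil (emb j'))
      (fun j' => hne (emb j')) x
  have hfin : Module.Finite ℤ S := by
    have hI : Algebra.IsIntegral ℤ S := ⟨fun s => by
      obtain ⟨s, rfl⟩ := Ideal.Quotient.mk_surjective s
      induction s using MvPolynomial.induction_on with
      | C c =>
        rw [← MvPolynomial.algebraMap_eq, ← Ideal.Quotient.mkₐ_eq_mk ℤ, AlgHom.commutes]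
        exact isIntegral_algebraMap
      | add a b ha hb => rw [map_add]; exact ha.add hb
      | mul_X a i ha => rw [map_mul]; exact ha.mul (hint' i)⟩
    exact Algebra.IsIntegral.finite
  have hreg : IsSMulRegular S (Ideal.Quotient.factor hle (Ideal.Quotient.mk _ g) ^ 2) := by
    refine IsSMulRegular.pow 2 ?_
    refine isSMulRegular_iff_right_eq_zero_of_smul.2 fun x hx => hφ ?_
    rw [map_zero]
    funext j'
    have h := congrFun (congrArg φ hx) j'
    rw [smul_eq_mul, map_mul, map_zero, Pi.mul_apply, Pi.zero_apply, mul_eq_zero] at h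
    refine h.resolve_left ?_
    change Ev p e (fun j' => ϖ (emb j')) g j' ≠ 0
    rw [hEv, hgj, map_prod, Finset.prod_ne_zero_iff]
    intro j hj h0
    rw [Finset.mem_filter] at hj
    refine hj.2 ⟨j', hinj _ _ ?_⟩
    exact Polynomial.eq_of_monic_of_associated (minpoly.monic (hint _)) (minpoly.monic (hint _))
      ((minpoly.irreducible (hint _)).associated_of_dvd (minpoly.irreducible (hint _))
        (minpoly.isIntegrallyClosed_dvd (hint _) h0))
  have := finite_maximal_of_isRegular S _ hreg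
  refine pic_mapRingHom_surjective _ (Ideal.Quotient.factor_surjective hle)
    (Ideal.Quotient.mk _ g) fun x hx => ?_
  obtain ⟨x, rfl⟩ := Ideal.Quotient.mk_surjective x
  rw [RingHom.mem_ker, Ideal.Quotient.factor_mk, Ideal.Quotient.eq_zero_iff_mem] at hx
  rw [← map_mul, Ideal.Quotient.eq_zero_iff_mem, RingHom.mem_ker]
  funext j
  rw [map_mul, Pi.mul_apply, Pi.zero_apply]
  by_cases hj : j ∈ Set.range emb
  · obtain ⟨j', rfl⟩ := hj
    rw [← hEv x, RingHom.mem_ker.1 hx, Pi.zero_apply, mul_zero]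
  · rw [hgj, map_prod, Finset.prod_eq_zero (Finset.mem_filter.2 ⟨Finset.mem_univ j, hj⟩)
      (minpoly.aeval ℤ (ϖ j)), zero_mul]

end Groth.Agent.WeilNum
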