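import Mathlib
import Groth.Prelude.Def_CAlg
import Groth.Agent.WeilNum.PicOrder
import Groth.Agent.WeilNum.Newton
import Groth.Agent.WeilNum.LocalCI
import Groth.Agent.GorLib.Artin
import Groth.Agent.SegreOne.Socle
import Groth.Agent.S17983

/-!
# The minimal central order of a family enlarged by a rational Weil number
-/

set_option autoImplicit false
universe u

open MvPolynomial

noncomputable section

namespace Groth.Agent.WeilNum

local notation "M2" => MvPolynomial (Fin 2) ℤ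

/-- Evaluation at the diagonal point `(t, t)`. -/
def σ (t : ℤ) : M2 →ₐ[ℤ] ℤ := aeval ![t, t]

/-- The ideal `(F - t, V - t)`. -/
def mIdeal (t : ℤ) : Ideal M2 := Ideal.span {X 0 - C t, X 1 - C t}

lemma σ_X (t : ℤ) (i : Fin 2) : σ t (X i) = t := by fin_cases i <;> simp [σ]

lemma sub_C_σ_mem (t : ℤ) (g : M2) : g - C (σ t g) ∈ mIdeal t := by
  induction g using MvPolynomial.induction_on with
  | C a => simp [σ]
  | add a b ha hb => convert (mIdeal t).add_mem ha hb using 1; simp; ring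
  | mul_X a i ha =>
    have h : X i - C t ∈ mIdeal t := by
      fin_cases i <;> exact Ideal.subset_span (by simp)
    convert (mIdeal t).add_mem ((mIdeal t).mul_mem_right (X i) ha)
      ((mIdeal t).mul_mem_left (C (σ t a)) h) using 1
    rw [map_mul, σ_X, map_mul]
    ring

lemma σ_zero (g : M2) : σ 0 g = constantCoeff g := by
  induction g using MvPolynomial.induction_on with
  | C a => simp [σ]
  | add a b ha hb => simp [ha, hb]
  | mul_X a i ha => simp [σ_X]

lemma σ_mIdeal (t : ℤ) {g : M2} (hg : g ∈ mIdeal t) : σ t g = 0 := by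
  obtain ⟨a, b, rfl⟩ := Ideal.mem_span_pair.1 hg
  simp [σ]

lemma mem_mIdeal_iff (t : ℤ) (g : M2) : g ∈ mIdeal t ↔ σ t g = 0 :=
  ⟨σ_mIdeal t, fun h => by simpa [h] using sub_C_σ_mem t g⟩

/-- The line `F = t`. -/
def line (t : ℤ) : M2 →ₐ[ℤ] Polynomial ℤ := aeval ![Polynomial.C t, Polynomial.X]

lemma mem_span_of_line (t : ℤ) {g : M2} (h : line t g = 0) :
    g ∈ Ideal.span {X 0 - C t} := by
  have key : ∀ g : M2, g - Polynomial.aeval (X 1 : M2) (line t g) ∈ Ideal.span {X 0 - C t} := by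
    intro g
    induction g using MvPolynomial.induction_on with
    | C a => simp [line]
    | add a b ha hb => convert (Ideal.span {X 0 - C t}).add_mem ha hb using 1; simp; ring
    | mul_X a i ha =>
      have h : X i - Polynomial.aeval (X 1 : M2) (line t (X i)) ∈ Ideal.span {X 0 - C t} := by
        fin_cases i
        · simpa [line] using Ideal.subset_span (Set.mem_singleton (X 0 - C t : M2))
        · simp [line]
      convert (Ideal.span {X 0 - C t}).add_mem ((Ideal.span {X 0 - C t}).mul_mem_right (X i) ha)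
        ((Ideal.span {X 0 - C t}).mul_mem_left (Polynomial.aeval (X 1 : M2) (line t a)) h) using 1
      rw [map_mul, map_mul]
      ring
  simpa [h] using key g

/-- A two term sequence starting with a nonzero element and prime kernel. -/
lemma isWeaklyRegular_pair {T : Type*} [CommRing T] [IsDomain T] (a b : M2) (ha : a ≠ 0)
    (f : M2 →+* T) (hfa : f a = 0) (hker : ∀ g, f g = 0 → g ∈ Ideal.span {a}) (hb : f b ≠ 0) :
    RingTheory.Sequence.IsWeaklyRegular M2 [a, b] := by
  open Pointwise in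
  rw [RingTheory.Sequence.isWeaklyRegular_cons_iff]
  refine ⟨isSMulRegular_iff_right_eq_zero_of_smul.2 fun x hx => (mul_eq_zero.1 hx).resolve_left ha, ?_⟩
  rw [RingTheory.Sequence.isWeaklyRegular_cons_iff]
  refine ⟨?_, RingTheory.Sequence.IsWeaklyRegular.nil _ _⟩
  refine isSMulRegular_iff_right_eq_zero_of_smul.2 fun x hx => ?_
  obtain ⟨y, rfl⟩ := Submodule.mkQ_surjective _ x
  rw [← map_smul, Submodule.mkQ_apply, Submodule.Quotient.mk_eq_zero] at hx
  rw [Submodule.mkQ_apply, Submodule.Quotient.mk_eq_zero]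
  open Pointwise in
  have key : ∀ z : M2, z ∈ a • (⊤ : Submodule M2 M2) ↔ z ∈ Ideal.span {a} := fun z => by
    rw [Submodule.mem_smul_pointwise_iff_exists, Ideal.mem_span_singleton]
    exact ⟨fun ⟨b, _, hb⟩ => ⟨b, hb.symm⟩, fun ⟨b, hb⟩ => ⟨b, trivial, hb.symm⟩⟩
  rw [key] at hx ⊢
  obtain ⟨c, hc⟩ := Ideal.mem_span_singleton.1 hx
  have := congrArg f hc
  rw [smul_eq_mul, map_mul, map_mul, hfa, zero_mul, mul_eq_zero] at this
  exact hker _ (this.resolve_left hb)

lemma normal_pair (q : ℤ) (g : M2) : ∃ A B : Polynomial ℤ,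
    g - (Polynomial.aeval (X 0 : M2) A + X 1 * Polynomial.aeval (X 1 : M2) B) ∈ J0 q := by
  induction g using MvPolynomial.induction_on' with
  | monomial u a =>
    have h0 := (J0 q).mul_mem_left (C a) (red q (u 0) (u 1))
    rcases le_or_gt (u 1) (u 0) with h | h
    · refine ⟨Polynomial.monomial (u 0 - u 1) (a * q ^ u 1), 0, ?_⟩
      convert h0 using 1
      rw [monomial_eq, Finsupp.prod_fintype _ _ (fun i => pow_zero _), Fin.prod_univ_two,
        Polynomial.aeval_monomial, map_zero (Polynomial.aeval (X 1 : M2)), mul_zero, add_zero,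
        MvPolynomial.algebraMap_eq, μ,
        min_eq_right h, show ((u 0 : ℤ) - u 1).toNat = u 0 - u 1 by omega,
        show (-((u 0 : ℤ) - u 1)).toNat = 0 by omega, map_mul]
      ring
    · refine ⟨0, Polynomial.monomial (u 1 - u 0 - 1) (a * q ^ u 0), ?_⟩
      convert h0 using 1
      rw [monomial_eq, Finsupp.prod_fintype _ _ (fun i => pow_zero _), Fin.prod_univ_two,
        Polynomial.aeval_monomial, map_zero (Polynomial.aeval (X 0 : M2)), zero_add,
        MvPolynomial.algebraMap_eq, μ,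
        min_eq_left h.le, show ((u 0 : ℤ) - u 1).toNat = 0 by omega,
        show (-((u 0 : ℤ) - u 1)).toNat = u 1 - u 0 - 1 + 1 by omega, map_mul, pow_succ]
      ring
  | add a b ha hb =>
    obtain ⟨A, B, h⟩ := ha
    obtain ⟨A', B', h'⟩ := hb
    exact ⟨A + A', B + B', by convert (J0 q).add_mem h h' using 1; simp; ring⟩

section

variable {p e : ℕ} [Fact p.Prime]

/-- The branch `V = 0` modulo `p`. -/
def χ₁ (p : ℕ) : M2 →ₐ[ℤ] Polynomial (ZMod p) := aeval ![Polynomial.X, 0]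

/-- The branch `F = 0` modulo `p`. -/
def χ₂ (p : ℕ) : M2 →ₐ[ℤ] Polynomial (ZMod p) := aeval ![0, Polynomial.X]

lemma C_mod (p : ℕ) (a : ℤ) : (algebraMap ℤ (Polynomial (ZMod p))) a = Polynomial.C (a : ZMod p) := by
  simp

lemma coeff_zero_χ (g : M2) : (χ₁ p g).coeff 0 = ((constantCoeff g : ℤ) : ZMod p) ∧
    (χ₂ p g).coeff 0 = ((constantCoeff g : ℤ) : ZMod p) := by
  induction g using MvPolynomial.induction_on with
  | C a => simp [χ₁, χ₂]
  | add a b ha hb => simp [ha.1, ha.2, hb.1, hb.2]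
  | mul_X a i ha => fin_cases i <;> simp [χ₁, χ₂]

lemma χ_q (he : 0 < e) : ((((p : ℤ) ^ e : ℤ)) : ZMod p) = 0 := by
  rw [ZMod.intCast_zmod_eq_zero_iff_dvd]
  exact dvd_pow_self _ he.ne'

lemma χ₁_J0 (he : 0 < e) {g : M2} (hg : g ∈ J0 ((p : ℤ) ^ e)) : χ₁ p g = 0 := by
  obtain ⟨b, rfl⟩ := Ideal.mem_span_singleton.1 hg
  simp [χ₁, zero_pow he.ne']

lemma χ₂_J0 (he : 0 < e) {g : M2} (hg : g ∈ J0 ((p : ℤ) ^ e)) : χ₂ p g = 0 := by
  obtain ⟨b, rfl⟩ := Ideal.mem_span_singleton.1 hg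
  simp [χ₂, zero_pow he.ne']

variable {D : ℕ} {P : Polynomial ℤ} {h : M2}

lemma X_pow_χ₁ (he : 0 < e) (hd : Datum ((p : ℤ) ^ e) D P h) :
    Polynomial.X ^ D * χ₁ p h = P.map (Int.castRingHom (ZMod p)) := by
  have := χ₁_J0 he hd.cong
  rw [map_sub, map_mul, map_pow, sub_eq_zero, ← Polynomial.aeval_algHom_apply,
    show χ₁ p (X 0) = Polynomial.X by simp [χ₁]] at this
  rw [this, Polynomial.aeval_def, Polynomial.map,
    RingHom.ext_int (algebraMap ℤ (Polynomial (ZMod p))) (Polynomial.C.comp (Int.castRingHom _))]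

lemma constantCoeff_mod (he : 0 < e) (hd : Datum ((p : ℤ) ^ e) D P h) :
    (p : ℤ) ∣ constantCoeff h ↔ (p : ℤ) ∣ P.coeff D := by
  have := congrArg (fun f : Polynomial (ZMod p) => f.coeff D) (X_pow_χ₁ he hd)
  simp only [Polynomial.coeff_map, eq_intCast] at this
  have e := Polynomial.coeff_X_pow_mul (χ₁ p h) D 0
  rw [Nat.zero_add] at e
  rw [e, (coeff_zero_χ (p := p) h).1] at this
  rw [← ZMod.intCast_zmod_eq_zero_iff_dvd, this, ZMod.intCast_zmod_eq_zero_iff_dvd]

lemma χ₁_ne_zero (he : 0 < e) (hd : Datum ((p : ℤ) ^ e) D P h) : χ₁ p h ≠ 0 := fun h0 => by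
  have := X_pow_χ₁ he hd
  rw [h0, mul_zero] at this
  exact (hd.monic.map (Int.castRingHom (ZMod p))).ne_zero this.symm

lemma χ₂_μ (n : ℤ) : χ₂ p (μ n) = if n ≤ 0 then Polynomial.X ^ (-n).toNat else 0 := by
  split
  next h => rw [μ, show n.toNat = 0 by omega]; simp [χ₂]
  next h => rw [μ]; simp [χ₂, show n.toNat ≠ 0 by omega]

lemma χ₂_ne_zero (he : 0 < e) (hd : Datum ((p : ℤ) ^ e) D P h) : χ₂ p h ≠ 0 := fun h0 => by
  obtain ⟨c, hc, hsupp, -, hcu⟩ := hd.exists_coeffs
  have h1 := χ₂_J0 he hc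
  rw [map_sub, h0, zero_sub, neg_eq_zero, Φ, Finsupp.linearCombination_apply, map_finsuppSum] at h1
  have h2 := congrArg (fun f : Polynomial (ZMod p) => f.coeff D) h1
  simp only [Finsupp.sum, Polynomial.finsetSum_coeff, Polynomial.coeff_zero] at h2
  rw [Finset.sum_eq_single (-(D : ℤ))] at h2
  · rw [map_zsmul, χ₂_μ, if_pos (by omega), show (-(-(D : ℤ))).toNat = D by omega,
      Polynomial.coeff_smul, Polynomial.coeff_X_pow, if_pos rfl, zsmul_eq_mul, mul_one] at h2
    exact ((hcu.map (Int.castRingHom (ZMod p)))).ne_zero h2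
  · intro n hn hne
    have := hsupp n (Finsupp.mem_support_iff.1 hn)
    rw [map_zsmul, χ₂_μ]
    split
    · rw [Polynomial.coeff_smul, Polynomial.coeff_X_pow, if_neg (by omega), smul_zero]
    · rw [smul_zero, Polynomial.coeff_zero]
  · intro hn
    simp [Finsupp.notMem_support_iff.1 hn]

end

/-- The presentation map of the enlarged family. -/
def Ev' (p e : ℕ) (s : ℤ) {ι : Type} {K : ι → Type u} [∀ i, Field (K i)] (π : ∀ i, K i) :
    M2 →ₐ[ℤ] ((i : ι) → K i) × ℚ :=
  aeval ![(⟨fun i => π i, (s : ℚ)⟩ : ((i : ι) → K i) × ℚ), ⟨fun i => ((p : K i) ^ e) / π i, (s : ℚ)⟩]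

section

variable {p e : ℕ} [Fact p.Prime] {s : ℤ} {ι : Type} [Fintype ι] {K : ι → Type u}
  [∀ i, Field (K i)] [∀ i, CharZero (K i)] {π : ∀ i, K i} {D : ℕ} {h : M2}

omit [Fact p.Prime] [Fintype ι] in
lemma Ev'_apply (g : M2) : Ev' p e s π g = (Ev p e π g, (σ s g : ℚ)) := by
  induction g using MvPolynomial.induction_on with
  | C a => simp [Ev', Ev, σ]; ext <;> simp
  | add a b ha hb => simp [ha, hb]
  | mul_X a i ha => fin_cases i <;> simp [map_mul, ha] <;> simp [Ev', Ev, σ]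

/-- The hypotheses of the rational extension. -/
structure Setting (p e : ℕ) (s : ℤ) (π : ∀ i, K i) (D : ℕ) (h : M2) : Prop where
  hs : s ^ 2 = (p : ℤ) ^ e
  he : 0 < e
  fam : Family ((p : ℤ) ^ e) π D
  dat : Datum ((p : ℤ) ^ e) D (∏ i, minpoly ℤ (π i)) h
  s_ne_root : (∏ i, minpoly ℤ (π i)).eval s ≠ 0

/-- The kernel ideal. -/
def Irat (p e : ℕ) (s : ℤ) (h : M2) : Ideal M2 :=
  Ideal.span {X 0 * X 1 - C ((p : ℤ) ^ e), h * (X 0 - C s), h * (X 1 - C s)}

variable (S : Setting p e s π D h)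
include S

lemma p_dvd_s : (p : ℤ) ∣ s := by
  refine (Nat.prime_iff_prime_int.1 (Fact.out : p.Prime)).dvd_of_dvd_pow (n := 2) ?_
  rw [S.hs]
  exact dvd_pow_self _ S.he.ne'

lemma a_mem : X 0 * X 1 - C ((p : ℤ) ^ e) ∈ mIdeal s := by
  rw [mem_mIdeal_iff, map_sub, map_mul, σ_X, σ_X, ← sq, S.hs, ← MvPolynomial.algebraMap_eq,
    AlgHom.commutes]
  simp

lemma σ_h_ne : σ s h ≠ 0 := by
  intro h0
  have h1 : σ s (X 0 ^ D * h - Polynomial.aeval (X 0 : M2) (∏ i, minpoly ℤ (π i))) = 0 := by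
    obtain ⟨b, hb⟩ := Ideal.mem_span_singleton.1 S.dat.cong
    rw [hb, map_mul, σ_mIdeal s (a_mem S), zero_mul]
  rw [map_sub, map_mul, h0, mul_zero, zero_sub, neg_eq_zero, ← Polynomial.aeval_algHom_apply,
    σ_X, Polynomial.coe_aeval_eq_eval] at h1
  exact S.s_ne_root h1

lemma hker : RingHom.ker (Ev' p e s π) = Irat p e s h := by
  have hJ := ker_Ev S.fam S.dat
  have hmem : ∀ g, g ∈ RingHom.ker (Ev' p e s π) ↔
      g ∈ RingHom.ker (Ev p e π) ∧ σ s g = 0 := fun g => by
    simp [RingHom.mem_ker, Ev'_apply, Prod.ext_iff]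
  refine le_antisymm (fun g hg => ?_) ?_
  · obtain ⟨h1, h2⟩ := (hmem g).1 hg
    rw [hJ] at h1
    obtain ⟨a, b, rfl⟩ := Ideal.mem_span_pair.1 h1
    have hb : b ∈ mIdeal s := by
      rw [map_add, map_mul, map_mul, σ_mIdeal s (a_mem S), mul_zero, zero_add, mul_eq_zero] at h2
      exact (mem_mIdeal_iff _ _).2 (h2.resolve_right (σ_h_ne S))
    obtain ⟨u, v, rfl⟩ := Ideal.mem_span_pair.1 hb
    rw [Irat, show a * (X 0 * X 1 - C ((p : ℤ) ^ e)) + (u * (X 0 - C s) + v * (X 1 - C s)) * h =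
      a * (X 0 * X 1 - C ((p : ℤ) ^ e)) + u * (h * (X 0 - C s)) + v * (h * (X 1 - C s)) by ring]
    exact Ideal.add_mem _ (Ideal.add_mem _ (Ideal.mul_mem_left _ _ (Ideal.subset_span (by simp)))
      (Ideal.mul_mem_left _ _ (Ideal.subset_span (by simp))))
      (Ideal.mul_mem_left _ _ (Ideal.subset_span (by simp)))
  · have hh : h ∈ RingHom.ker (Ev p e π) := by rw [hJ]; exact Ideal.subset_span (by simp)
    refine Ideal.span_le.2 ?_
    rintro g (rfl | rfl | rfl) <;> refine (hmem _).2 ⟨?_, ?_⟩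
    · rw [hJ]; exact Ideal.subset_span (by simp)
    · exact σ_mIdeal s (a_mem S)
    · exact Ideal.mul_mem_right _ _ hh
    · rw [map_mul, σ_mIdeal s (Ideal.subset_span (by simp) : X 0 - C s ∈ mIdeal s), mul_zero]
    · exact Ideal.mul_mem_right _ _ hh
    · rw [map_mul, σ_mIdeal s (Ideal.subset_span (by simp) : X 1 - C s ∈ mIdeal s), mul_zero]

/-- At every prime the ideal is cut out by a regular sequence of length two, away from the
node. -/
lemma local_gen (hc : ¬ (p : ℤ) ∣ constantCoeff h) (Q : Ideal M2) [Q.IsPrime]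
    (hQ : Irat p e s h ≤ Q) :
    ∃ rs : List M2, RingTheory.Sequence.IsWeaklyRegular M2 rs ∧
      (∀ x ∈ Irat p e s h, ∃ v, v ∉ Q ∧ v * x ∈ Ideal.ofList rs) ∧
      (∀ x ∈ Ideal.ofList rs, ∃ v, v ∉ Q ∧ v * x ∈ Irat p e s h) := by
  classical
  set q : ℤ := (p : ℤ) ^ e with hq
  have hof : ∀ a b : M2, Ideal.ofList [a, b] = Ideal.span {a, b} := fun a b => by
    rw [Ideal.ofList]; congr 1; ext; simp
  have hIa : X 0 * X 1 - C q ∈ Irat p e s h := Ideal.subset_span (by simp [hq])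
  have hIF : h * (X 0 - C s) ∈ Irat p e s h := Ideal.subset_span (by simp [hq])
  have hIV : h * (X 1 - C s) ∈ Irat p e s h := Ideal.subset_span (by simp [hq])
  have hone : (1 : M2) ∉ Q := fun h1 => (inferInstance : Q.IsPrime).ne_top ((Ideal.eq_top_iff_one _).2 h1)
  have hIm : Irat p e s h ≤ mIdeal s := by
    refine Ideal.span_le.2 ?_
    rintro g (rfl | rfl | rfl)
    · exact a_mem S
    · exact Ideal.mul_mem_left _ _ (Ideal.subset_span (by simp))
    · exact Ideal.mul_mem_left _ _ (Ideal.subset_span (by simp))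
  by_cases hhQ : h ∈ Q
  swap
  · refine ⟨[X 0 - C s, X 1 - C s], ?_, fun x hx => ⟨1, hone, ?_⟩, fun x hx => ⟨h, hhQ, ?_⟩⟩
    · refine isWeaklyRegular_pair _ _ ?_ (line s).toRingHom (by simp [line])
        (fun g hg => mem_span_of_line s hg) ?_
      · intro h0
        have := congrArg (σ (s + 1)) h0
        simp [σ] at this
      · intro h0
        have : line s (X 1 - C s) = 0 := h0
        refine Polynomial.X_sub_C_ne_zero s ?_
        simpa [line] using this
    · rw [one_mul, hof]; exact hIm hx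
    · rw [hof] at hx
      obtain ⟨a, b, rfl⟩ := Ideal.mem_span_pair.1 hx
      rw [mul_add, mul_left_comm, mul_left_comm h b]
      exact Ideal.add_mem _ (Ideal.mul_mem_left _ _ hIF) (Ideal.mul_mem_left _ _ hIV)
  by_cases hm : mIdeal s ≤ Q
  swap
  · obtain ⟨g, hg, hgQ⟩ : ∃ g, g ∈ ({X 0 - C s, X 1 - C s} : Set M2) ∧ g ∉ Q := by
      by_contra hcon
      push Not at hcon
      exact hm (Ideal.span_le.2 hcon)
    refine ⟨[X 0 * X 1 - C q, h], isWeaklyRegular S.dat, fun x hx => ⟨1, hone, ?_⟩,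
      fun x hx => ⟨g, hgQ, ?_⟩⟩
    · rw [one_mul, hof]
      refine (Ideal.span_le.2 ?_) hx
      rintro y (rfl | rfl | rfl)
      · exact Ideal.subset_span (by simp [hq])
      · exact Ideal.mul_mem_right _ _ (Ideal.subset_span (by simp))
      · exact Ideal.mul_mem_right _ _ (Ideal.subset_span (by simp))
    · rw [hof] at hx
      obtain ⟨a, b, rfl⟩ := Ideal.mem_span_pair.1 hx
      rw [mul_add, mul_left_comm, mul_left_comm g b, mul_comm g h]
      refine Ideal.add_mem _ (Ideal.mul_mem_left _ _ (Ideal.mul_mem_left _ _ hIa))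
        (Ideal.mul_mem_left _ _ ?_)
      rcases hg with rfl | rfl
      · exact hIF
      · exact hIV
  have hX : ∀ i : Fin 2, X i - C s ∈ Q := fun i => hm (by
    rw [mem_mIdeal_iff, map_sub, σ_X, ← MvPolynomial.algebraMap_eq, AlgHom.commutes]; simp)
  have hsQ : C s ∉ Q := fun hsQ => by
    have hX0 : ∀ i : Fin 2, X i ∈ Q := fun i => by simpa using Q.add_mem (hX i) hsQ
    have hle : mIdeal 0 ≤ Q := Ideal.span_le.2 (by rintro y (rfl | rfl) <;> simp [hX0])
    have hc0 : C (σ 0 h) ∈ Q := by simpa using Q.sub_mem hhQ (hle (sub_C_σ_mem 0 h))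
    rw [σ_zero] at hc0
    have hp : (C (p : ℤ) : M2) ∈ Q := by
      have h2 : (C (p : ℤ) : M2) ^ e ∈ Q := by
        rw [← map_pow, ← S.hs, map_pow, sq]
        exact Q.mul_mem_left _ hsQ
      exact (inferInstance : Q.IsPrime).mem_of_pow_mem _ h2
    obtain ⟨u, v, huv⟩ :=
      (Nat.prime_iff_prime_int.1 (Fact.out : p.Prime)).coprime_iff_not_dvd.2 hc
    refine hone ?_
    have := Q.add_mem (Q.mul_mem_left (C u) hp) (Q.mul_mem_left (C v) hc0)
    rwa [← map_mul, ← map_mul, ← map_add, huv, map_one] at this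
  have hX0Q : X 0 ∉ Q := fun h0 => hsQ (by simpa using Q.sub_mem h0 (hX 0))
  refine ⟨[X 0 * X 1 - C q, h * (X 0 - C s)], ?_, fun x hx => ⟨X 0, hX0Q, ?_⟩,
    fun x hx => ⟨1, hone, ?_⟩⟩
  · refine isWeaklyRegular_pair _ _ ?_ (θ q).toRingHom (θ_J0 q (Ideal.subset_span rfl))
      (fun g hg => mem_J0_of_θ q S.dat.q_ne hg) ?_
    · intro h0
      have := congrArg (constantCoeff : M2 →+* ℤ) h0
      rw [map_sub, map_mul, constantCoeff_X, zero_mul, zero_sub, constantCoeff_C, map_zero,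
        neg_eq_zero] at this
      exact S.dat.q_ne this
    · change θ q (h * (X 0 - C s)) ≠ 0
      rw [map_mul]
      refine mul_ne_zero S.dat.θ_ne_zero fun h0 => ?_
      have h1 : θ q (μ 1) - θ q (C s) = 0 := by simpa [μ] using h0
      have h2 : θ q (C s) = LaurentPolynomial.C (s : ℚ) := by
        rw [← MvPolynomial.algebraMap_eq, AlgHom.commutes]; simp
      rw [θ_μ, h2] at h1
      have := congrArg (fun f : LaurentPolynomial ℚ => f.coeff 1) h1
      simp only [AddMonoidAlgebra.coeff_sub, Finsupp.sub_apply,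
        ← LaurentPolynomial.single_eq_C_mul_T, AddMonoidAlgebra.coeff_single,
        Finsupp.single_eq_same, LaurentPolynomial.C_apply, AddMonoidAlgebra.coeff_zero,
        Finsupp.coe_zero, Pi.zero_apply] at this
      simp [w] at this
  · rw [hof]
    refine (show Irat p e s h ≤ Submodule.comap (LinearMap.mulLeft M2 (X 0 : M2))
      (Ideal.span {X 0 * X 1 - C q, h * (X 0 - C s)}) from Ideal.span_le.2 ?_) hx
    rintro y (rfl | rfl | rfl) <;>
      rw [SetLike.mem_coe, Submodule.mem_comap, LinearMap.mulLeft_apply]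
    · exact Ideal.mul_mem_left _ _ (Ideal.subset_span (by simp [hq]))
    · exact Ideal.mul_mem_left _ _ (Ideal.subset_span (Set.mem_insert_of_mem _ rfl))
    · refine Ideal.mem_span_pair.2 ⟨h, -C s, ?_⟩
      have : (C q : M2) = C s * C s := by rw [← map_mul, ← sq, S.hs]
      rw [this]; ring
  · rw [one_mul]
    rw [hof] at hx
    obtain ⟨a, b, rfl⟩ := Ideal.mem_span_pair.1 hx
    exact Ideal.add_mem _ (Ideal.mul_mem_left _ _ hIa) (Ideal.mul_mem_left _ _ hIF)

/-- Gorenstein away from the node. -/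
lemma gorenstein_of_ordinary (hc : ¬ (p : ℤ) ∣ constantCoeff h) :
    LocCoh.IsGorensteinRing (Ev' p e s π).range := by
  classical
  let eu : ULift.{u} M2 ≃+* M2 := ULift.ringEquiv
  have : IsRegularRing (ULift.{u} M2) := IsRegularRing.of_ringEquiv eu.symm
  let φ : ULift.{u} M2 →+* (Ev' p e s π).range :=
    (Ev' p e s π).rangeRestrict.toRingHom.comp eu.toRingHom
  have hφ : Function.Surjective φ := (Ev' p e s π).rangeRestrict_surjective.comp eu.surjective
  have hk : ∀ x, x ∈ RingHom.ker φ ↔ eu x ∈ Irat p e s h := fun x => by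
    rw [← hker S]
    simp [φ, Subtype.ext_iff]
  have := isGorensteinRing_quotient_of_local (RingHom.ker φ) fun Q _ hQ => by
    have hQ' : Irat p e s h ≤ Q.comap eu.symm.toRingHom := fun g hg => hQ ((hk _).2 (by simpa using hg))
    obtain ⟨rs, hreg, h1, h2⟩ := local_gen S hc _ hQ'
    refine ⟨rs.map eu.symm, ?_, ?_, ?_⟩
    · refine (eu.symm.toAddEquiv.isWeaklyRegular_congr ?_).1 hreg
      exact List.forall₂_map_right_iff.mpr
        (List.forall₂_same.mpr fun r _ x => map_mul eu.symm r x)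
    · intro x hx
      obtain ⟨v, hv, hvx⟩ := h1 (eu x) ((hk x).1 hx)
      refine ⟨eu.symm v, hv, ?_⟩
      have := Ideal.mem_map_of_mem eu.symm.toRingHom hvx
      rw [Ideal.map_ofList] at this
      simpa using this
    · intro x hx
      have hx' : eu x ∈ Ideal.ofList rs := by
        have := Ideal.mem_map_of_mem eu.toRingHom hx
        rw [Ideal.map_ofList, List.map_map] at this
        simpa [Function.comp_def] using this
      obtain ⟨v, hv, hvx⟩ := h2 (eu x) hx'
      exact ⟨eu.symm v, hv, (hk _).2 (by simpa using hvx)⟩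
  exact Groth.Agent.SegreOne.isGorensteinRing_of_ringEquiv
    (RingHom.quotientKerEquivOfSurjective hφ)

/-- Not Gorenstein at the node, for an abstract copy of the order. -/
lemma node_false {R : Type u} [CommRing R] [Module.Finite ℤ R] (π₀ : M2 →+* R)
    (hπ₀ : Function.Surjective π₀) (hkerπ : RingHom.ker π₀ = Irat p e s h)
    (hpS : IsSMulRegular R (π₀ (C (p : ℤ)))) (hG : LocCoh.IsGorensteinRing R)
    (hc : (p : ℤ) ∣ constantCoeff h) : False := by
  classical
  set q : ℤ := (p : ℤ) ^ e with hq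
  have hp := (Fact.out : p.Prime)
  obtain ⟨A, B, hAB⟩ := normal_pair q h
  set x : M2 := Polynomial.aeval (X 0 : M2) A with hx
  set y : M2 := X 1 * Polynomial.aeval (X 1 : M2) B with hy
  let m₀ : Ideal M2 := RingHom.ker ((Int.castRingHom (ZMod p)).comp (constantCoeff (σ := Fin 2)))
  have hm₀ : m₀.IsPrime := RingHom.ker_isPrime _
  have hmem₀ : ∀ g : M2, g ∈ m₀ ↔ (p : ℤ) ∣ constantCoeff g := fun g => by
    simp [m₀, ZMod.intCast_zmod_eq_zero_iff_dvd]
  have hqd : (p : ℤ) ∣ q := dvd_pow_self _ S.he.ne'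
  have hI₀ : Irat p e s h ≤ m₀ := Ideal.span_le.2 (by
    rintro g (rfl | rfl | rfl) <;> rw [SetLike.mem_coe, hmem₀] <;>
      simp [hqd, hc.mul_right, p_dvd_s S, hq, dvd_pow_self (p : ℤ) S.he.ne'])
  let m : Ideal R := m₀.map π₀
  have hm : m.IsPrime := Ideal.map_isPrime_of_surjective hπ₀ (hkerπ ▸ hI₀)
  have hcomap : ∀ g, π₀ g ∈ m ↔ g ∈ m₀ := fun g => by
    refine ⟨fun hg => ?_, fun hg => Ideal.mem_map_of_mem _ hg⟩
    have : g ∈ m.comap π₀ := hg
    rwa [Ideal.comap_map_of_surjective _ hπ₀, ← RingHom.ker_eq_comap_bot, hkerπ,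
      sup_eq_left.2 hI₀] at this
  have := hG.isGorensteinLocalRing_localization m
  set φ : M2 →+* (Localization.AtPrime m) := (algebraMap _ (Localization.AtPrime m)).comp π₀ with hφdef
  set pL : (Localization.AtPrime m) := φ (C (p : ℤ)) with hpL
  have hφm : ∀ g ∈ m₀, φ g ∈ IsLocalRing.maximalIdeal (Localization.AtPrime m) := fun g hg => by
    rw [← Localization.AtPrime.map_eq_maximalIdeal]
    exact Ideal.mem_map_of_mem _ ((hcomap g).2 hg)
  have hpm : pL ∈ IsLocalRing.maximalIdeal (Localization.AtPrime m) := hφm _ ((hmem₀ _).2 (by simp))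
  have hpLreg : IsSMulRegular (Localization.AtPrime m) pL := hpS.of_flat
  have hgA := (GorLib.isGorensteinLocalRing_quotient_iff hpm (fun a b hab => hpLreg hab)).1 inferInstance
  let ψ : M2 →+* ((Localization.AtPrime m) ⧸ Ideal.span {pL}) := (Ideal.Quotient.mk _).comp φ
  have hψ0 : ∀ g, ψ g = 0 ↔ ∃ u, u ∉ m₀ ∧ u * g ∈ Irat p e s h ⊔ Ideal.span {C (p : ℤ)} := by
    intro g
    have hspan : Ideal.span {pL} = (Ideal.span {π₀ (C (p : ℤ))}).map (algebraMap _ (Localization.AtPrime m)) := by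
      rw [Ideal.map_span, Set.image_singleton]; rfl
    change Ideal.Quotient.mk _ (φ g) = 0 ↔ _
    rw [Ideal.Quotient.eq_zero_iff_mem, hspan]
    constructor
    · intro hg
      obtain ⟨⟨⟨a, ha⟩, ⟨v, hv⟩⟩, hav⟩ := (IsLocalization.mem_map_algebraMap_iff m.primeCompl (Localization.AtPrime m)).1 hg
      obtain ⟨⟨w, hw⟩, hwe⟩ := (IsLocalization.eq_iff_exists m.primeCompl (Localization.AtPrime m)).1
        (show algebraMap _ (Localization.AtPrime m) (π₀ g * v) = algebraMap _ (Localization.AtPrime m) a by rw [map_mul]; exact hav)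
      obtain ⟨u, hu⟩ := hπ₀ (w * v)
      refine ⟨u, fun hum => (hm.mul_notMem hw hv) (hu ▸ (hcomap u).2 hum), ?_⟩
      have : π₀ (u * g) ∈ (Ideal.span {C (p : ℤ)}).map π₀ := by
        rw [Ideal.map_span, Set.image_singleton, map_mul, hu, mul_assoc, mul_comm v]
        rw [show w * (π₀ g * v) = w * a from hwe]
        exact Ideal.mul_mem_left _ _ ha
      rw [← Ideal.mem_comap, Ideal.comap_map_of_surjective _ hπ₀, ← RingHom.ker_eq_comap_bot,
        hkerπ] at this
      rwa [sup_comm]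
    · rintro ⟨u, hu, hug⟩
      refine (Ideal.unit_mul_mem_iff_mem _
        (IsLocalization.map_units (Localization.AtPrime m) (⟨π₀ u, fun hh => hu ((hcomap u).1 hh)⟩ : m.primeCompl))).1 ?_
      rw [show φ g = algebraMap _ (Localization.AtPrime m) (π₀ g) from rfl, ← map_mul, ← map_mul]
      refine Ideal.mem_map_of_mem _ ?_
      have := Ideal.mem_map_of_mem π₀ hug
      rwa [Ideal.map_sup, (Ideal.map_eq_bot_iff_le_ker π₀).2 hkerπ.ge, bot_sup_eq, Ideal.map_span,
        Set.image_singleton] at this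
  have hψrange : Finite ψ.range := by
    let χ : R →+* ((Localization.AtPrime m) ⧸ Ideal.span {pL}) := (Ideal.Quotient.mk _).comp (algebraMap _ (Localization.AtPrime m))
    have hr : ψ.range = χ.range := by
      ext z
      constructor
      · rintro ⟨g, rfl⟩; exact ⟨π₀ g, rfl⟩
      · rintro ⟨w, rfl⟩; obtain ⟨g, rfl⟩ := hπ₀ w; exact ⟨g, rfl⟩
    rw [hr]
    have hfin : Module.Finite ℤ χ.range :=
      Module.Finite.of_surjective χ.rangeRestrict.toAddMonoidHom.toIntLinearMap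
        χ.rangeRestrict_surjective
    refine Module.finite_of_fg_torsion _ fun z => ⟨⟨(p : ℤ), mem_nonZeroDivisors_of_ne_zero
      (by exact_mod_cast hp.ne_zero)⟩, Subtype.ext ?_⟩
    change ((p : ℤ) • z).1 = 0
    have h0 : ((p : ℤ) : ((Localization.AtPrime m) ⧸ Ideal.span {pL})) = 0 := by
      have h1 : Ideal.Quotient.mk (Ideal.span {pL}) pL = 0 :=
        Ideal.Quotient.eq_zero_iff_mem.2 (Ideal.subset_span rfl)
      rw [← eq_intCast (ψ.comp (C : ℤ →+* M2)) (p : ℤ)]
      exact h1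
    change _ = (0 : (Localization.AtPrime m) ⧸ Ideal.span {pL})
    rw [zsmul_eq_mul, Subring.coe_mul, Subring.coe_intCast, h0, zero_mul]
  have hψ : Function.Surjective ψ := by
    intro z
    obtain ⟨z, rfl⟩ := Ideal.Quotient.mk_surjective z
    obtain ⟨a, ⟨v, hv⟩, rfl⟩ := IsLocalization.exists_mk'_eq m.primeCompl z
    obtain ⟨a, rfl⟩ := hπ₀ a
    obtain ⟨v, rfl⟩ := hπ₀ v
    have hu : IsUnit (ψ v) :=
      (IsLocalization.map_units (Localization.AtPrime m) (⟨π₀ v, hv⟩ : m.primeCompl)).map (Ideal.Quotient.mk _)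
    obtain ⟨w, hw⟩ : ∃ w : ψ.range, ⟨ψ v, v, rfl⟩ * w = (⟨ψ a, a, rfl⟩ : ψ.range) :=
      (Finite.injective_iff_surjective.1 (fun b c hbc => Subtype.ext
        (hu.mul_left_cancel (congrArg Subtype.val hbc)))) _
    obtain ⟨w, hw'⟩ := w.2
    refine ⟨w, hu.mul_left_cancel ?_⟩
    rw [hw']
    refine (congrArg Subtype.val hw).trans ?_
    change ψ a = Ideal.Quotient.mk _ (φ v) * Ideal.Quotient.mk _ _
    rw [← map_mul, hφdef]
    simp only [RingHom.comp_apply]
    change _ = Ideal.Quotient.mk _ _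
    rw [IsLocalization.mk'_spec'_mk]
    rfl
  have : Finite ((Localization.AtPrime m) ⧸ Ideal.span {pL}) :=
    Finite.of_surjective (fun z : ψ.range => (z : ((Localization.AtPrime m) ⧸ Ideal.span {pL}))) fun z => ⟨⟨z, hψ z⟩, rfl⟩
  have : IsArtinianRing ((Localization.AtPrime m) ⧸ Ideal.span {pL}) := inferInstance
  have hker' : ∀ g, g ∈ Irat p e s h ⊔ Ideal.span {C (p : ℤ)} → ψ g = 0 := fun g hg =>
    (hψ0 g).2 ⟨1, fun h1 => hm₀.ne_top ((Ideal.eq_top_iff_one _).2 h1), by rwa [one_mul]⟩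
  have hpz : ψ (C (p : ℤ)) = 0 := hker' _ (Ideal.mem_sup_right (Ideal.subset_span rfl))
  have hdvd0 : ∀ a : ℤ, (p : ℤ) ∣ a → ψ (C a) = 0 := fun a ⟨c, hc⟩ => by
    rw [hc, map_mul, map_mul, hpz, zero_mul]
  have hJ0 : ∀ g ∈ J0 q, ψ g = 0 := fun g hg => by
    refine hker' g (Ideal.mem_sup_left ?_)
    obtain ⟨b, rfl⟩ := Ideal.mem_span_singleton.1 hg
    exact Ideal.mul_mem_right _ _ (Ideal.subset_span (by simp [hq]))
  have hFV : ψ (X 0) * ψ (X 1) = 0 := by
    have := hJ0 _ (Ideal.subset_span rfl)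
    rwa [map_sub, map_mul, hdvd0 q hqd, sub_zero] at this
  have hmh : ∀ i : Fin 2, ψ (X i) * ψ h = 0 := fun i => by
    have h1 : ψ (h * (X i - C s)) = 0 := hker' _ (Ideal.mem_sup_left (Ideal.subset_span
      (by fin_cases i <;> simp)))
    rw [map_mul, map_sub, hdvd0 s (p_dvd_s S), sub_zero] at h1
    rwa [mul_comm]
  have hhxy : ψ h = ψ x + ψ y := by
    have := hJ0 _ hAB
    rw [map_sub, map_add, sub_eq_zero] at this
    exact this
  have hA0 : A.coeff 0 = constantCoeff (x + y) := by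
    rw [map_add, hy, map_mul, constantCoeff_X, zero_mul, add_zero, hx,
      ← Polynomial.X_mul_divX_add A]
    simp
  have hA0' : (p : ℤ) ∣ A.coeff 0 := by
    obtain ⟨b, hb⟩ := Ideal.mem_span_singleton.1 hAB
    have := congrArg (constantCoeff : M2 →+* ℤ) hb
    rw [map_sub, map_mul, ← hA0] at this
    rw [show A.coeff 0 = constantCoeff h - (constantCoeff h - A.coeff 0) by ring, this]
    refine dvd_sub hc (Dvd.dvd.mul_right ?_ _)
    simpa using hqd
  have hxF : ψ x = ψ (X 0) * ψ (Polynomial.aeval (X 0 : M2) A.divX) := by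
    conv_lhs => rw [hx, ← Polynomial.X_mul_divX_add A]
    rw [map_add, map_mul, Polynomial.aeval_X, Polynomial.aeval_C, map_add, map_mul,
      MvPolynomial.algebraMap_eq, hdvd0 _ hA0', add_zero]
  have hxy0 : ∀ i : Fin 2, ψ (X i) * ψ x = 0 ∧ ψ (X i) * ψ y = 0 := by
    have h1 : ψ (X 1) * ψ x = 0 := by rw [hxF, ← mul_assoc, mul_comm (ψ (X 1)), hFV, zero_mul]
    have h0 : ψ (X 0) * ψ y = 0 := by rw [hy, map_mul, ← mul_assoc, hFV, zero_mul]
    intro i
    fin_cases i
    · refine ⟨?_, h0⟩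
      have := hmh 0
      rwa [hhxy, mul_add, h0, add_zero] at this
    · refine ⟨h1, ?_⟩
      have := hmh 1
      rwa [hhxy, mul_add, h1, zero_add] at this
  have hsoc : ∀ g : M2, (∀ i : Fin 2, ψ (X i) * ψ g = 0) → GorLib.IsSocle (ψ g) := by
    intro g hg z hz
    obtain ⟨a, rfl⟩ := hψ z
    have ha : a ∈ m₀ := by
      by_contra hna
      exact hz ((IsLocalization.map_units (Localization.AtPrime m)
        (⟨π₀ a, fun hh => hna ((hcomap a).1 hh)⟩ : m.primeCompl)).map (Ideal.Quotient.mk _))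
    have h1 := sub_C_σ_mem 0 a
    obtain ⟨u, v, huv⟩ := Ideal.mem_span_pair.1 h1
    rw [σ_zero, map_zero, sub_zero, sub_zero, eq_sub_iff_add_eq] at huv
    rw [← huv, map_add, hdvd0 _ ((hmem₀ a).1 ha), add_zero, map_add, map_mul, map_mul, add_mul,
      mul_assoc, mul_assoc, hg, hg, mul_zero, mul_zero, add_zero]
  let H₁ : Ideal M2 := (Ideal.span {Polynomial.X * χ₁ p h}).comap (χ₁ p)
  let H₂ : Ideal M2 := (Ideal.span {Polynomial.X * χ₂ p h}).comap (χ₂ p)
  have hH : ∀ g ∈ Irat p e s h ⊔ Ideal.span {C (p : ℤ)}, g ∈ H₁ ∧ g ∈ H₂ := by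
    have hs0 : ((s : ℤ) : ZMod p) = 0 := (ZMod.intCast_zmod_eq_zero_iff_dvd _ _).2 (p_dvd_s S)
    intro g hg
    have : Irat p e s h ⊔ Ideal.span {C (p : ℤ)} ≤ H₁ ⊓ H₂ := by
      refine sup_le (Ideal.span_le.2 ?_) (Ideal.span_le.2 ?_)
      · rintro g (rfl | rfl | rfl)
        · have hm0 : X 0 * X 1 - C ((p : ℤ) ^ e) ∈ J0 q := Ideal.subset_span rfl
          refine ⟨?_, ?_⟩ <;> rw [SetLike.mem_coe, Ideal.mem_comap]
          · rw [χ₁_J0 S.he hm0]; exact zero_mem _
          · rw [χ₂_J0 S.he hm0]; exact zero_mem _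
        · refine ⟨Ideal.mem_span_singleton.2 ⟨1, ?_⟩, ?_⟩
          · rw [map_mul, map_sub, ← MvPolynomial.algebraMap_eq, AlgHom.commutes, C_mod, hs0,
              map_zero, sub_zero, mul_one, mul_comm]
            simp [χ₁]
          · rw [SetLike.mem_coe, Ideal.mem_comap]
            rw [map_mul, map_sub, ← MvPolynomial.algebraMap_eq, AlgHom.commutes, C_mod, hs0]
            simp [χ₂]
        · refine ⟨?_, Ideal.mem_span_singleton.2 ⟨1, ?_⟩⟩
          · rw [SetLike.mem_coe, Ideal.mem_comap]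
            rw [map_mul, map_sub, ← MvPolynomial.algebraMap_eq, AlgHom.commutes, C_mod, hs0]
            simp [χ₁]
          · rw [map_mul, map_sub, ← MvPolynomial.algebraMap_eq, AlgHom.commutes, C_mod, hs0,
              map_zero, sub_zero, mul_one, mul_comm]
            simp [χ₂]
      · rintro g rfl
        constructor <;> simp [H₁, H₂, χ₁, χ₂]
    exact this hg
  have hχ₂x : χ₂ p x = 0 := by
    rw [hx, ← Polynomial.aeval_algHom_apply, show χ₂ p (X 0) = 0 by simp [χ₂],
      ← Polynomial.coeff_zero_eq_aeval_zero', C_mod,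
      (ZMod.intCast_zmod_eq_zero_iff_dvd _ _).2 hA0', map_zero]
  have hχ₂y : χ₂ p y = χ₂ p h := by
    have := χ₂_J0 S.he hAB
    rw [map_sub, map_add, hχ₂x, zero_add, sub_eq_zero] at this
    exact this.symm
  have hχ₁x : χ₁ p x = χ₁ p h := by
    have h1 : χ₁ p y = 0 := by simp [hy, χ₁]
    have := χ₁_J0 S.he hAB
    rw [map_sub, map_add, h1, add_zero, sub_eq_zero] at this
    exact this.symm
  have hcancel : ∀ (c : Polynomial (ZMod p)) (u : Polynomial (ZMod p)), c ≠ 0 → u.coeff 0 ≠ 0 →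
      u * c ∉ Ideal.span {Polynomial.X * c} := by
    intro c u hc0 hu hmem
    obtain ⟨w, hw⟩ := Ideal.mem_span_singleton.1 hmem
    have : u = Polynomial.X * w := mul_right_cancel₀ hc0 (by rw [hw]; ring)
    exact hu (by rw [this, Polynomial.mul_coeff_zero, Polynomial.coeff_X_zero, zero_mul])
  have hunit : ∀ u : M2, u ∉ m₀ → ((constantCoeff u : ℤ) : ZMod p) ≠ 0 := fun u hu h0 =>
    hu ((hmem₀ u).2 ((ZMod.intCast_zmod_eq_zero_iff_dvd _ _).1 h0))
  have hxne : ψ x ≠ 0 := fun h0 => by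
    obtain ⟨u, hu, hux⟩ := (hψ0 x).1 h0
    have h1 : χ₁ p (u * x) ∈ Ideal.span {Polynomial.X * χ₁ p h} := (hH _ hux).1
    rw [map_mul, hχ₁x] at h1
    exact hcancel _ _ (χ₁_ne_zero S.he S.dat) (by rw [(coeff_zero_χ u).1]; exact hunit u hu) h1
  obtain ⟨r, hr⟩ := GorLib.socleCyclic_of_gorenstein (A := (Localization.AtPrime m) ⧸ Ideal.span {pL}) (ψ x) (ψ y)
    (hsoc x fun i => (hxy0 i).1) (hsoc y fun i => (hxy0 i).2) hxne
  obtain ⟨r, rfl⟩ := hψ r
  have h0 : ψ (y - r * x) = 0 := by rw [map_sub, map_mul ψ r x, hr, sub_self]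
  obtain ⟨u, hu, hux⟩ := (hψ0 _).1 h0
  have h1 : χ₂ p (u * (y - r * x)) ∈ Ideal.span {Polynomial.X * χ₂ p h} := (hH _ hux).2
  rw [map_mul (χ₂ p) u, map_sub, map_mul (χ₂ p) r x, hχ₂x, mul_zero, sub_zero, hχ₂y] at h1
  exact hcancel _ _ (χ₂_ne_zero S.he S.dat) (by rw [(coeff_zero_χ u).2]; exact hunit u hu) h1


/-- Not Gorenstein at the node. -/
lemma dvd_false (hG : LocCoh.IsGorensteinRing (Ev' p e s π).range)
    (hc : (p : ℤ) ∣ constantCoeff h) (hweil : ∀ i, ∀ z ∈ (minpoly ℤ (π i)).aroots ℂ,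
      ‖z‖ = Real.sqrt ((p : ℝ) ^ e)) : False := by
  classical
  have hp := (Fact.out : p.Prime)
  let π₀ : M2 →+* (Ev' p e s π).range := (Ev' p e s π).rangeRestrict.toRingHom
  have hπ₀ : Function.Surjective π₀ := (Ev' p e s π).rangeRestrict_surjective
  have hkerπ : RingHom.ker π₀ = Irat p e s h := by
    rw [← hker S]; ext g; simp [π₀, Subtype.ext_iff]
  have hpS : IsSMulRegular (Ev' p e s π).range (π₀ (C (p : ℤ))) := by
    refine (isSMulRegular_iff_right_eq_zero_of_smul (M := (Ev' p e s π).range)).2 fun z hz => ?_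
    have hv : (Ev' p e s π (C (p : ℤ))) * (z : ((i : ι) → K i) × ℚ) = 0 := congrArg Subtype.val hz
    have hp' : Ev' p e s π (C (p : ℤ)) = ((p : ℤ) : ((i : ι) → K i) × ℚ) := by
      rw [← MvPolynomial.algebraMap_eq, AlgHom.commutes, eq_intCast]
    rw [hp', ← zsmul_eq_mul] at hv
    refine Subtype.ext (Prod.ext (funext fun i => ?_) ?_)
    · have := congrFun (congrArg Prod.fst hv) i
      simpa [hp.ne_zero] using this
    · simpa [hp.ne_zero] using congrArg Prod.snd hv
  have hfinS : Module.Finite ℤ (Ev' p e s π).range := by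
    have hI : Algebra.IsIntegral ℤ (Ev' p e s π).range := ⟨fun z => by
      obtain ⟨g, rfl⟩ := (Ev' p e s π).rangeRestrict_surjective z
      induction g using MvPolynomial.induction_on with
      | C c =>
        rw [← MvPolynomial.algebraMap_eq, AlgHom.commutes]
        exact isIntegral_algebraMap
      | add a b ha hb => rw [map_add]; exact ha.add hb
      | mul_X a i ha =>
        rw [map_mul]
        refine ha.mul ?_
        rw [← isIntegral_algHom_iff (Ev' p e s π).range.val Subtype.val_injective]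
        change IsIntegral ℤ (Ev' p e s π (X i))
        rw [Ev'_apply]
        refine IsIntegral.pair (exists_monic_annihilating hp.pos S.fam.int hweil S.fam.ne i) ?_
        rw [σ_X, ← eq_intCast (algebraMap ℤ ℚ)]
        exact isIntegral_algebraMap⟩
    have : Algebra.FiniteType ℤ (Ev' p e s π).range :=
      Algebra.FiniteType.of_surjective (Ev' p e s π).rangeRestrict (Ev' p e s π).rangeRestrict_surjective
    exact Algebra.IsIntegral.finite
  exact node_false S π₀ hπ₀ hkerπ hpS hG hc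

end

end Groth.Agent.WeilNum
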