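import Mathlib
import Groth.Agent.WeilNum.Family

/-!
# Modules over the minimal central order
-/

set_option autoImplicit false
universe u

open MvPolynomial

noncomputable section

namespace Groth.Agent.WeilNum

local notation "M2" => MvPolynomial (Fin 2) ℤ

variable {p e : ℕ} {ι : Type} [Fintype ι] {K : ι → Type u} [∀ i, Field (K i)]
  [∀ i, CharZero (K i)] {π : ∀ i, K i} {D : ℕ} {h : M2}
  {T : Type} [AddCommGroup T] [Module.Free ℤ T]

lemma exists_action (hf : Family ((p : ℤ) ^ e) π D)
    (hd : Datum ((p : ℤ) ^ e) D (∏ i, minpoly ℤ (π i)) h) (FT VT : T →ₗ[ℤ] T)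
    (hP : Polynomial.aeval FT (∏ i, minpoly ℤ (π i)) = 0)
    (hV : FT ∘ₗ VT = ((p : ℤ) ^ e) • LinearMap.id) :
    ∃ φ : (Ev p e π).range →+* AddMonoid.End T,
      ∀ t : T, φ ⟨Ev p e π (X 0), AlgHom.mem_range_self _ _⟩ t = FT t := by
  classical
  set q : ℤ := (p : ℤ) ^ e with hq
  set P := ∏ i, minpoly ℤ (π i) with hPdef
  have hP0 : P.coeff 0 ≠ 0 := fun h0 => by
    have := hd.const
    rw [h0] at this
    simp [hd.q_ne, eq_comm] at this
  have hinj : Function.Injective FT := by
    refine (injective_iff_map_eq_zero _).2 fun x hx => ?_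
    have h1 := LinearMap.congr_fun hP x
    rw [← Polynomial.divX_mul_X_add P, map_add, map_mul, Polynomial.aeval_X, Polynomial.aeval_C,
      LinearMap.add_apply,
      Module.End.mul_apply, hx, map_zero, zero_add, Module.algebraMap_end_apply,
      LinearMap.zero_apply] at h1
    exact (smul_eq_zero.1 h1).resolve_left hP0
  have hVF : VT * FT = algebraMap ℤ (Module.End ℤ T) q := by
    refine LinearMap.ext fun x => hinj ?_
    rw [Module.End.mul_apply, Module.algebraMap_end_apply, map_smul]
    exact LinearMap.congr_fun hV (FT x)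
  have hFV : FT * VT = algebraMap ℤ (Module.End ℤ T) q := by
    refine LinearMap.ext fun x => ?_
    rw [Module.algebraMap_end_apply]
    exact LinearMap.congr_fun hV x
  let S : Subalgebra ℤ (Module.End ℤ T) := Algebra.adjoin ℤ {FT, VT}
  have : IsMulCommutative S := Algebra.isMulCommutative_adjoin ℤ (by
    rintro a (rfl | rfl) b (rfl | rfl)
    · rfl
    · rw [hFV, hVF]
    · rw [hFV, hVF]
    · rfl)
  letI : CommRing S := { (inferInstance : Ring S) with mul_comm := mul_comm' }
  let f : S := ⟨FT, Algebra.subset_adjoin (by simp)⟩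
  let v : S := ⟨VT, Algebra.subset_adjoin (by simp)⟩
  let ψ : M2 →ₐ[ℤ] S := aeval ![f, v]
  have h0 : J0 q ≤ RingHom.ker ψ := by
    rw [J0, Ideal.span_le, Set.singleton_subset_iff]
    change ψ _ = 0
    refine Subtype.ext ?_
    simp [ψ, f, v, hFV]
  have hh : ψ h = 0 := by
    have h1 : ψ (X 0 ^ D * h - Polynomial.aeval (X 0 : M2) P) = 0 := h0 hd.cong
    rw [map_sub, map_mul, map_pow, ← Polynomial.aeval_algHom_apply,
      show ψ (X 0) = f by simp [ψ]] at h1
    have h2 : Polynomial.aeval f P = 0 :=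
      Subtype.ext ((Polynomial.aeval_subalgebra_coe P S f).trans hP)
    rw [h2, sub_zero] at h1
    have h3 : (FT ^ D) * (ψ h : Module.End ℤ T) = 0 := congrArg Subtype.val h1
    refine Subtype.ext (LinearMap.ext fun x => ?_)
    have h4 := LinearMap.congr_fun h3 x
    rw [Module.End.mul_apply, LinearMap.zero_apply] at h4
    have h5 : Function.Injective (FT ^ D : Module.End ℤ T) := by
      rw [Module.End.coe_pow]; exact hinj.iterate D
    exact h5 (h4.trans (map_zero _).symm)
  have hle : RingHom.ker (Ev p e π) ≤ RingHom.ker ψ := by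
    rw [ker_Ev hf hd, Ideal.span_le]
    rintro g (rfl | rfl)
    · exact h0 (Ideal.subset_span rfl)
    · exact hh
  have hsurj := (Ev p e π).rangeRestrict_surjective
  let ψ' : M2 →+* AddMonoid.End T :=
    (({ toFun := fun g => g.toAddMonoidHom, map_one' := rfl, map_mul' := fun _ _ => rfl,
        map_zero' := rfl, map_add' := fun _ _ => rfl } : Module.End ℤ T →+* AddMonoid.End T).comp
      (S.val.toRingHom)).comp ψ.toRingHom
  refine ⟨RingHom.liftOfSurjective (Ev p e π).rangeRestrict.toRingHom hsurj ⟨ψ', fun g hg => ?_⟩,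
    fun t => ?_⟩
  · have hg' : g ∈ RingHom.ker (Ev p e π) := congrArg Subtype.val (RingHom.mem_ker.1 hg)
    have := RingHom.mem_ker.1 (hle hg')
    rw [RingHom.mem_ker]
    exact AddMonoidHom.ext fun t => by simp [ψ', this]; rfl
  · rw [show (⟨Ev p e π (X 0), AlgHom.mem_range_self _ _⟩ : (Ev p e π).range) =
      (Ev p e π).rangeRestrict.toRingHom (X 0) from rfl, RingHom.liftOfRightInverse_comp_apply]
    simp [ψ', ψ, f]
    rfl

end Groth.Agent.WeilNum
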